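import Groth.Prelude.Def_PP16
import Groth.Agent.Diff16.Basic
import Mathlib.RingTheory.TensorProduct.Pi
import Mathlib.Algebra.Algebra.Operations

set_option autoImplicit false
set_option linter.unusedSectionVars false

open scoped TensorProduct BigOperators

namespace Groth.Agent.PP16

universe u

variable (A : Type u) {B : Type u} [CommRing A] [CommRing B] [Algebra A B]

/-- `1 ⊗ b - b ⊗ 1`. -/
noncomputable abbrev delta (b : B) : B ⊗[A] B := (1 : B) ⊗ₜ[A] b - b ⊗ₜ[A] (1 : B)

theorem delta_mem (b : B) : delta A b ∈ KaehlerDifferential.ideal A B :=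
  KaehlerDifferential.one_smul_sub_smul_one_mem_ideal A b

theorem ideal_eq_span :
    KaehlerDifferential.ideal A B = Ideal.span (Set.range (delta A (B := B))) :=
  (KaehlerDifferential.span_range_eq_ideal A B).symm

theorem one_tmul_eq (b : B) : (1 : B) ⊗ₜ[A] b = b ⊗ₜ[A] (1 : B) + delta A b := by
  simp [delta]

theorem span_dn (n : ℕ) : Submodule.span B (Set.range (_root_.PP16.dn n A B)) = ⊤ := by
  rw [eq_top_iff]
  rintro x -
  obtain ⟨x, rfl⟩ := Ideal.Quotient.mk_surjective x
  induction x using TensorProduct.induction_on with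
  | zero => simp
  | tmul b c =>
    have : b ⊗ₜ[A] c = b • ((1 : B) ⊗ₜ[A] c) := by
      rw [TensorProduct.smul_tmul', smul_eq_mul, mul_one]
    rw [this]
    exact Submodule.smul_mem _ b (Submodule.subset_span (Set.mem_range_self (f := _root_.PP16.dn n A B) c))
  | add x y hx hy => rw [map_add]; exact Submodule.add_mem _ hx hy

section monomials

variable {ι : Type*} [Fintype ι] (z : ι → B)

/-- The monomial `∏ δ(z i)^(p i)`. -/
noncomputable abbrev deltaPow (p : ι → ℕ) : B ⊗[A] B := ∏ i, delta A (z i) ^ p i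

theorem deltaPow_mem (p : ι → ℕ) :
    deltaPow A z p ∈ KaehlerDifferential.ideal A B ^ (∑ i, p i) := by
  classical
  rw [← Finset.prod_pow_eq_pow_sum]
  exact Ideal.prod_mem_prod fun i _ => Ideal.pow_mem_pow (delta_mem A _) _

/-- Span of the monomials of degree `k`. -/
noncomputable def degSpan (k : ℕ) : Submodule B (B ⊗[A] B) :=
  Submodule.span B (deltaPow A z '' {p | ∑ i, p i = k})

theorem degSpan_mul_le (k l : ℕ) : degSpan A z k * degSpan A z l ≤ degSpan A z (k + l) := by
  rw [degSpan, degSpan, Submodule.span_mul_span, Submodule.span_le]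
  rintro _ ⟨_, ⟨p, hp, rfl⟩, _, ⟨q, hq, rfl⟩, rfl⟩
  refine Submodule.subset_span ⟨p + q, ?_, ?_⟩
  · simp only [Set.mem_setOf_eq, Pi.add_apply, Finset.sum_add_distrib] at hp hq ⊢; omega
  · simp [deltaPow, pow_add, Finset.prod_mul_distrib]

theorem degSpan_le_pow (k : ℕ) :
    degSpan A z k ≤ (KaehlerDifferential.ideal A B ^ k).restrictScalars B := by
  rw [degSpan, Submodule.span_le]
  rintro _ ⟨p, hp, rfl⟩
  rw [Set.mem_setOf_eq] at hp
  rw [← hp]; exact deltaPow_mem A z p

theorem ideal_le_degSpan_one
    (hz : Submodule.span B (Set.range fun i => KaehlerDifferential.D A B (z i)) = ⊤) :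
    (KaehlerDifferential.ideal A B).restrictScalars B ≤
      degSpan A z 1 ⊔ (KaehlerDifferential.ideal A B ^ 2).restrictScalars B := by
  classical
  intro x hx
  obtain ⟨c, hc⟩ := Submodule.mem_span_range_iff_exists_fun B |>.1
    (hz ▸ Submodule.mem_top : KaehlerDifferential.fromIdeal A B ⟨x, hx⟩ ∈ _)
  have hs : ∑ i, c i • delta A (z i) ∈ degSpan A z 1 := by
    refine Submodule.sum_mem _ fun i _ => Submodule.smul_mem _ _
      (Submodule.subset_span ⟨Pi.single i 1, by simp, ?_⟩)
    simp only [deltaPow]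
    rw [Finset.prod_eq_single i (fun j _ hj => by simp [hj]) (by simp), Pi.single_eq_same, pow_one]
  refine Submodule.mem_sup.2 ⟨_, hs, x - ∑ i, c i • delta A (z i), ?_, add_sub_cancel _ _⟩
  have hmem : x - ∑ i, c i • delta A (z i) ∈ KaehlerDifferential.ideal A B :=
    sub_mem hx (Ideal.sum_mem _ fun i _ => Submodule.smul_of_tower_mem _ _ (delta_mem A _))
  rw [Submodule.restrictScalars_mem, ← Ideal.toCotangent_eq_zero _ ⟨_, hmem⟩]
  change KaehlerDifferential.fromIdeal A B ⟨_, hmem⟩ = 0
  have e : (⟨_, hmem⟩ : KaehlerDifferential.ideal A B) =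
      ⟨x, hx⟩ - ∑ i, c i • (⟨delta A (z i), delta_mem A _⟩ : KaehlerDifferential.ideal A B) :=
    Subtype.ext (by simp [delta])
  rw [e, map_sub, map_sum, ← hc, sub_eq_zero]
  refine Finset.sum_congr rfl fun i _ => ?_
  rw [LinearMap.map_smul_of_tower]
  rfl

theorem pow_le_degSpan
    (hz : Submodule.span B (Set.range fun i => KaehlerDifferential.D A B (z i)) = ⊤) :
    ∀ k : ℕ, (KaehlerDifferential.ideal A B ^ k).restrictScalars B ≤
      degSpan A z k ⊔ (KaehlerDifferential.ideal A B ^ (k + 1)).restrictScalars B := by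
  intro k
  induction k with
  | zero =>
    rw [pow_zero, zero_add, pow_one]
    intro x _
    induction x using TensorProduct.induction_on with
    | zero => exact zero_mem _
    | tmul b c =>
      refine Submodule.mem_sup.2 ⟨(b * c) • (1 : B ⊗[A] B),
        Submodule.smul_mem _ _ (Submodule.subset_span ⟨0, by simp, by simp [deltaPow]⟩),
        b • delta A c, Submodule.smul_mem _ _ (delta_mem A c), ?_⟩
      simp [delta, smul_sub, TensorProduct.smul_tmul', Algebra.TensorProduct.one_def]
    | add x y hx hy => exact add_mem (hx (by simp)) (hy (by simp))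
  | succ k ih =>
    intro x hx
    rw [Submodule.restrictScalars_mem, pow_succ] at hx
    induction hx using Submodule.mul_induction_on' with
    | mem_mul_mem a ha b hb =>
      obtain ⟨s, hs, r, hr, rfl⟩ := Submodule.mem_sup.1 (ih ha)
      obtain ⟨s', hs', r', hr', rfl⟩ := Submodule.mem_sup.1 (ideal_le_degSpan_one A z hz hb)
      refine Submodule.mem_sup.2 ⟨s * s', degSpan_mul_le A z k 1 (Submodule.mul_mem_mul hs hs'),
        r * (s' + r') + s * r', ?_, by ring⟩
      refine add_mem ?_ ?_
      · rw [Submodule.restrictScalars_mem] at hr ⊢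
        rw [pow_succ _ (k + 1)]; exact Ideal.mul_mem_mul hr hb
      · have := Ideal.mul_mem_mul (degSpan_le_pow A z k hs) hr'
        rwa [← pow_add] at this
    | add x _ y _ hx hy => exact add_mem hx hy

theorem top_le_monomials
    (hz : Submodule.span B (Set.range fun i => KaehlerDifferential.D A B (z i)) = ⊤) (m : ℕ) :
    (⊤ : Submodule B (B ⊗[A] B)) ≤ Submodule.span B (deltaPow A z '' {p | ∑ i, p i ≤ m}) ⊔
      (KaehlerDifferential.ideal A B ^ (m + 1)).restrictScalars B := by
  induction m with
  | zero =>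
    have := pow_le_degSpan A z hz 0
    rw [pow_zero, Ideal.one_eq_top, Submodule.restrictScalars_top] at this
    refine this.trans (sup_le_sup_right (Submodule.span_mono ?_) _)
    rintro _ ⟨p, hp, rfl⟩; exact ⟨p, le_of_eq hp, rfl⟩
  | succ m ih =>
    refine ih.trans (sup_le (le_sup_of_le_left (Submodule.span_mono ?_))
      ((pow_le_degSpan A z hz (m + 1)).trans (sup_le_sup_right (Submodule.span_mono ?_) _)))
    · rintro _ ⟨p, hp, rfl⟩
      exact ⟨p, le_trans (show ∑ i, p i ≤ m from hp) (Nat.le_succ m), rfl⟩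
    · rintro _ ⟨p, hp, rfl⟩; exact ⟨p, le_of_eq hp, rfl⟩

theorem span_monomials_P
    (hz : Submodule.span B (Set.range fun i => KaehlerDifferential.D A B (z i)) = ⊤) (m : ℕ) :
    Submodule.span B (Set.range fun p : {p : ι → ℕ // ∑ i, p i ≤ m} =>
      ∏ i, (_root_.PP16.dn m A B (z i) - algebraMap B (_root_.PP16.P m A B) (z i)) ^ p.1 i) = ⊤ := by
  rw [eq_top_iff]
  rintro x -
  obtain ⟨x, rfl⟩ := Ideal.Quotient.mk_surjective x
  obtain ⟨s, hs, r, hr, rfl⟩ :=
    Submodule.mem_sup.1 (top_le_monomials A z hz m (Submodule.mem_top (x := x)))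
  rw [map_add, Ideal.Quotient.eq_zero_iff_mem.2 hr, add_zero]
  let f : B ⊗[A] B →ₗ[B] _root_.PP16.P m A B := (Ideal.Quotient.mkₐ B _).toLinearMap
  have := Submodule.mem_map_of_mem (f := f) hs
  rw [Submodule.map_span] at this
  refine Submodule.span_mono ?_ this
  rintro _ ⟨_, ⟨p, hp, rfl⟩, rfl⟩
  refine ⟨⟨p, hp⟩, ?_⟩
  simp only [f, deltaPow, AlgHom.toLinearMap_apply, Ideal.Quotient.mkₐ_eq_mk, map_prod, map_pow,
    map_sub]
  rfl

end monomials

theorem exists_generators_span [Algebra.FiniteType A B] :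
    ∃ (r : ℕ) (z : Fin r → B), Algebra.adjoin A (Set.range z) = ⊤ ∧
      Submodule.span B (Set.range fun i => KaehlerDifferential.D A B (z i)) = ⊤ := by
  obtain ⟨s, hs⟩ := ‹Algebra.FiniteType A B›.1
  refine ⟨s.card, fun i => (s.equivFin.symm i : B), ?_, ?_⟩
  · have : Set.range (fun i => (s.equivFin.symm i : B)) = (s : Set B) := by
      ext x
      constructor
      · rintro ⟨i, rfl⟩; exact (s.equivFin.symm i).2
      · intro hx; exact ⟨s.equivFin ⟨x, hx⟩, by simp⟩
    rw [this]; exact hs
  · rw [eq_top_iff, ← KaehlerDifferential.span_range_derivation, Submodule.span_le]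
    rintro _ ⟨b, rfl⟩
    have hb : b ∈ Algebra.adjoin A (s : Set B) := hs ▸ Algebra.mem_top
    induction hb using Algebra.adjoin_induction with
    | mem x hx => exact Submodule.subset_span ⟨s.equivFin ⟨x, hx⟩, by simp⟩
    | algebraMap a => simp
    | add x y _ _ hx hy => rw [map_add]; exact add_mem hx hy
    | mul x y _ _ hx hy =>
      rw [Derivation.leibniz]; exact add_mem (Submodule.smul_mem _ _ hy) (Submodule.smul_mem _ _ hx)

theorem finite_P (n : ℕ) [Algebra.FiniteType A B] : Module.Finite B (_root_.PP16.P n A B) := by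
  classical
  obtain ⟨r, z, -, hz⟩ := exists_generators_span A (B := B)
  have : Finite {p : Fin r → ℕ // ∑ i, p i ≤ n} :=
    Finite.of_injective (fun p i => (⟨p.1 i, Nat.lt_succ_of_le
      (le_trans (Finset.single_le_sum (fun j _ => Nat.zero_le _) (Finset.mem_univ i)) p.2)⟩ :
        Fin (n + 1))) fun p q h => Subtype.ext <| funext fun i => by
      simpa using congrArg Fin.val (congrFun h i)
  exact ⟨by rw [← span_monomials_P A z hz n]; exact Submodule.fg_span (Set.finite_range _)⟩

theorem ideal_fg [Algebra.FiniteType A B] : (KaehlerDifferential.ideal A B).FG := by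
  classical
  obtain ⟨r, z, hgen, -⟩ := exists_generators_span A (B := B)
  refine ⟨Finset.univ.image fun i => delta A (z i), le_antisymm ?_ ?_⟩
  · rw [Submodule.span_le]
    intro x hx
    simp only [Finset.coe_image, Set.mem_image] at hx
    obtain ⟨i, -, rfl⟩ := hx
    exact delta_mem A _
  · refine le_of_eq_of_le (ideal_eq_span A) (Ideal.span_le.2 ?_)
    rintro _ ⟨b, rfl⟩
    have hb : b ∈ Algebra.adjoin A (Set.range z) := hgen ▸ Algebra.mem_top
    induction hb using Algebra.adjoin_induction with
    | mem x hx =>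
      obtain ⟨i, rfl⟩ := hx
      exact Ideal.subset_span (by simp)
    | algebraMap a =>
      have : delta A (algebraMap A B a) = 0 := by
        simp [delta, Algebra.algebraMap_eq_smul_one, TensorProduct.tmul_smul,
          TensorProduct.smul_tmul']
      rw [this]; exact zero_mem _
    | add x y _ _ hx hy =>
      have : delta A (x + y) = delta A x + delta A y := by
        simp only [delta, TensorProduct.tmul_add, TensorProduct.add_tmul]; abel
      rw [this]; exact add_mem hx hy
    | mul x y _ _ hx hy =>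
      have : delta A (x * y) = delta A x * ((1 : B) ⊗ₜ[A] y) + delta A y * (x ⊗ₜ[A] (1 : B)) := by
        simp only [delta, sub_mul, Algebra.TensorProduct.tmul_mul_tmul, one_mul, mul_one,
          mul_comm y x]; abel
      rw [this]; exact add_mem (Ideal.mul_mem_right _ _ hx) (Ideal.mul_mem_right _ _ hy)

end Groth.Agent.PP16
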