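import Groth.Prelude.Def_PP16
import Groth.Agent.PP16.Basic
import Mathlib.RingTheory.Localization.BaseChange
import Mathlib.RingTheory.IsTensorProduct
import Mathlib.LinearAlgebra.TensorProduct.RightExactness

set_option autoImplicit false
set_option linter.unusedSectionVars false

open scoped TensorProduct BigOperators

namespace Groth.Agent.PP16

universe u

attribute [local instance] _root_.PP16.mapAlgebra _root_.PP16.isScalarTower_mapAlgebra

section

variable (n : ℕ) (A B A' B' : Type u) [CommRing A] [CommRing B] [Algebra A B]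
  [CommRing A'] [CommRing B'] [Algebra A' B'] [Algebra A A'] [Algebra B B'] [Algebra A B']
  [IsScalarTower A A' B'] [IsScalarTower A B B']

theorem tensorMap_delta (b : B) : (_root_.PP16.tensorMap A B A' B') (delta A b) = delta A' (algebraMap B B' b) := by
  simp [delta, _root_.PP16.tensorMap_tmul]

theorem tensorMap_surjective (h : Function.Surjective (algebraMap B B')) :
    Function.Surjective (_root_.PP16.tensorMap A B A' B') := by
  intro x
  induction x using TensorProduct.induction_on with
  | zero => exact ⟨0, map_zero _⟩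
  | tmul b c =>
    obtain ⟨b, rfl⟩ := h b
    obtain ⟨c, rfl⟩ := h c
    exact ⟨b ⊗ₜ c, _root_.PP16.tensorMap_tmul A B A' B' b c⟩
  | add x y hx hy =>
    obtain ⟨x, rfl⟩ := hx
    obtain ⟨y, rfl⟩ := hy
    exact ⟨x + y, map_add _ _ _⟩

theorem ideal_map_eq (h : Function.Surjective (algebraMap B B')) : (KaehlerDifferential.ideal A B).map (_root_.PP16.tensorMap A B A' B') = (KaehlerDifferential.ideal A' B') := by
  refine le_antisymm (_root_.PP16.ideal_map_tensorMap_le A B A' B') ?_
  rw [ideal_eq_span A', Ideal.span_le]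
  rintro _ ⟨b, rfl⟩
  obtain ⟨b, rfl⟩ := h b
  rw [← tensorMap_delta A B A' B']
  exact Ideal.mem_map_of_mem _ (delta_mem A b)

theorem map_surjective_of (h : Function.Surjective (_root_.PP16.tensorMap A B A' B')) :
    Function.Surjective (_root_.PP16.map n A B A' B') := by
  intro x
  obtain ⟨x, rfl⟩ := Ideal.Quotient.mk_surjective x
  obtain ⟨y, rfl⟩ := h x
  exact ⟨Ideal.Quotient.mk _ y, rfl⟩

theorem ker_map (h : Function.Surjective (_root_.PP16.tensorMap A B A' B')) (hI : (KaehlerDifferential.ideal A B).map (_root_.PP16.tensorMap A B A' B') = (KaehlerDifferential.ideal A' B')) :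
    RingHom.ker (_root_.PP16.map n A B A' B') =
      (RingHom.ker (_root_.PP16.tensorMap A B A' B')).map (Ideal.Quotient.mk ((KaehlerDifferential.ideal A B) ^ (n + 1))) := by
  ext x
  obtain ⟨x, rfl⟩ := Ideal.Quotient.mk_surjective x
  rw [RingHom.mem_ker, _root_.PP16.map_mk, Ideal.Quotient.eq_zero_iff_mem, ← hI, ← Ideal.map_pow,
    ← Ideal.mem_comap, Ideal.comap_map_of_surjective (_root_.PP16.tensorMap A B A' B') h,
    Ideal.mem_map_iff_of_surjective _ Ideal.Quotient.mk_surjective]
  constructor
  · intro hx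
    obtain ⟨a, ha, c, hc, rfl⟩ := Submodule.mem_sup.1 hx
    refine ⟨c, hc, ?_⟩
    rw [map_add, Ideal.Quotient.eq_zero_iff_mem.2 ha, zero_add]
  · rintro ⟨c, hc, e⟩
    rw [Ideal.Quotient.eq] at e
    rw [show x = -(c - x) + c by ring]
    exact Submodule.add_mem_sup (neg_mem e) hc

end

section tower

variable (n : ℕ) (A B C : Type u) [CommRing A] [CommRing B] [CommRing C]
    [Algebra A B] [Algebra B C] [Algebra A C] [IsScalarTower A B C]

theorem ker_tensorMap_tower :
    RingHom.ker (_root_.PP16.tensorMap A C B C) =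
      (KaehlerDifferential.ideal A B).map (_root_.PP16.tensorMap A B A C) := by
  set K := (KaehlerDifferential.ideal A B).map (_root_.PP16.tensorMap A B A C) with hK
  refine le_antisymm ?_ ?_
  · let f : C →ₐ[B] (C ⊗[A] C) ⧸ K :=
      (Ideal.Quotient.mkₐ B K).comp (Algebra.TensorProduct.includeLeft (R := A) (S := B))
    let g : C →ₐ[B] (C ⊗[A] C) ⧸ K :=
      { toRingHom := (Ideal.Quotient.mk K).comp
          (Algebra.TensorProduct.includeRight : C →ₐ[A] C ⊗[A] C).toRingHom
        commutes' := fun b => by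
          rw [IsScalarTower.algebraMap_apply B (C ⊗[A] C) ((C ⊗[A] C) ⧸ K),
            Ideal.Quotient.algebraMap_eq]
          change Ideal.Quotient.mk K ((1 : C) ⊗ₜ[A] algebraMap B C b) =
            Ideal.Quotient.mk K (algebraMap B C b ⊗ₜ[A] (1 : C))
          rw [Ideal.Quotient.eq]
          have := Ideal.mem_map_of_mem (_root_.PP16.tensorMap A B A C) (delta_mem A b)
          rwa [tensorMap_delta A B A C b] at this }
    let L : C ⊗[B] C →ₐ[B] (C ⊗[A] C) ⧸ K :=
      Algebra.TensorProduct.lift f g fun _ _ => Commute.all _ _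
    have hL : ∀ x, L (_root_.PP16.tensorMap A C B C x) = Ideal.Quotient.mk K x := by
      intro x
      induction x using TensorProduct.induction_on with
      | zero => simp
      | tmul c d =>
        rw [_root_.PP16.tensorMap_tmul, Algebra.algebraMap_self_apply,
          Algebra.algebraMap_self_apply]
        change f c * g d = _
        change Ideal.Quotient.mk K (c ⊗ₜ[A] (1 : C)) * Ideal.Quotient.mk K ((1 : C) ⊗ₜ[A] d) = _
        rw [← map_mul, Algebra.TensorProduct.tmul_mul_tmul, mul_one, one_mul]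
      | add x y hx hy => rw [map_add, map_add, hx, hy, map_add]
    intro x hx
    rw [RingHom.mem_ker] at hx
    rw [← Ideal.Quotient.eq_zero_iff_mem, ← hL, hx, map_zero]
  · rw [hK, ideal_eq_span A, Ideal.map_span, Ideal.span_le]
    rintro _ ⟨_, ⟨b, rfl⟩, rfl⟩
    rw [SetLike.mem_coe, RingHom.mem_ker, tensorMap_delta A B A C b, tensorMap_delta A C B C]
    simp [delta, Algebra.algebraMap_eq_smul_one, TensorProduct.smul_tmul]

theorem map_tower :
    Function.Surjective (_root_.PP16.map n A C B C) ∧
      RingHom.ker (_root_.PP16.map n A C B C) =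
        (_root_.PP16.augIdeal n A B).map (_root_.PP16.map n A B A C) := by
  have hs : Function.Surjective (algebraMap C C) := Function.surjective_id
  refine ⟨map_surjective_of n A C B C (tensorMap_surjective A C B C hs), ?_⟩
  rw [ker_map n A C B C (tensorMap_surjective A C B C hs) (ideal_map_eq A C B C hs),
    ker_tensorMap_tower, _root_.PP16.augIdeal]
  rw [← Ideal.map_coe (_root_.PP16.tensorMap A B A C), Ideal.map_map,
    ← Ideal.map_coe (_root_.PP16.map n A B A C), Ideal.map_map]
  rfl

theorem map_quotient (K : Ideal B) :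
    Function.Surjective (_root_.PP16.map n A B A (B ⧸ K)) ∧
      RingHom.ker (_root_.PP16.map n A B A (B ⧸ K)) =
        K.map (algebraMap B (_root_.PP16.P n A B)) ⊔ K.map (_root_.PP16.dn n A B) := by
  have hs : Function.Surjective (algebraMap B (B ⧸ K)) := Ideal.Quotient.mk_surjective
  refine ⟨map_surjective_of n A B A (B ⧸ K) (tensorMap_surjective A B A (B ⧸ K) hs), ?_⟩
  rw [ker_map n A B A (B ⧸ K) (tensorMap_surjective A B A (B ⧸ K) hs)
    (ideal_map_eq A B A (B ⧸ K) hs)]
  have ht : _root_.PP16.tensorMap A B A (B ⧸ K) =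
      Algebra.TensorProduct.map (Ideal.Quotient.mkₐ A K) (Ideal.Quotient.mkₐ A K) :=
    Algebra.TensorProduct.ext' fun a b => by
      rw [_root_.PP16.tensorMap_tmul]; rfl
  rw [ht, Algebra.TensorProduct.map_ker _ _ (Ideal.Quotient.mkₐ_surjective A K)
    (Ideal.Quotient.mkₐ_surjective A K), ← RingHom.ker_coe_toRingHom (Ideal.Quotient.mkₐ A K), Ideal.Quotient.mkₐ_ker, Ideal.map_sup]
  congr 1
  · rw [← Ideal.map_coe (Algebra.TensorProduct.includeLeft : B →ₐ[A] B ⊗[A] B), Ideal.map_map]
    rfl
  · rw [← Ideal.map_coe (Algebra.TensorProduct.includeRight : B →ₐ[A] B ⊗[A] B), Ideal.map_map]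
    rfl

theorem retraction (g : B →ₐ[A] A) :
    Function.Surjective ((Ideal.Quotient.mk ((RingHom.ker g).map
        (algebraMap B (_root_.PP16.P n A B)))).comp (_root_.PP16.dn n A B).toRingHom) ∧
      RingHom.ker ((Ideal.Quotient.mk ((RingHom.ker g).map
        (algebraMap B (_root_.PP16.P n A B)))).comp (_root_.PP16.dn n A B).toRingHom) =
          RingHom.ker g ^ (n + 1) := by
  set L := (RingHom.ker g).map (algebraMap B (_root_.PP16.P n A B)) with hL
  have hmod : ∀ b : B, ∃ a : A, Ideal.Quotient.mk L (algebraMap B _ b) =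
      Ideal.Quotient.mk L (algebraMap A _ a) ∧ g b = a := fun b => ⟨g b, by
    rw [Ideal.Quotient.eq, IsScalarTower.algebraMap_apply A B (_root_.PP16.P n A B), ← map_sub]
    exact Ideal.mem_map_of_mem _ (by simp), rfl⟩
  constructor
  · intro x
    obtain ⟨x, rfl⟩ := Ideal.Quotient.mk_surjective x
    obtain ⟨x, rfl⟩ := Ideal.Quotient.mk_surjective x
    induction x using TensorProduct.induction_on with
    | zero => exact ⟨0, by simp⟩
    | tmul b c =>
      obtain ⟨a, ha, -⟩ := hmod b
      refine ⟨algebraMap A B a * c, ?_⟩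
      have : Ideal.Quotient.mk ((KaehlerDifferential.ideal A B) ^ (n + 1)) (b ⊗ₜ[A] c) =
          algebraMap B _ b * _root_.PP16.dn n A B c := by
        change _ = Ideal.Quotient.mk _ (b ⊗ₜ[A] (1 : B)) * Ideal.Quotient.mk _ ((1 : B) ⊗ₜ[A] c)
        rw [← map_mul, Algebra.TensorProduct.tmul_mul_tmul, mul_one, one_mul]
      rw [this, map_mul, map_mul, ha]
      simp
    | add x y hx hy =>
      obtain ⟨a, ha⟩ := hx
      obtain ⟨b, hb⟩ := hy
      exact ⟨a + b, by rw [map_add, map_add, map_add, ha, hb]⟩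
  · let π : B ⊗[A] B →ₐ[A] B :=
      Algebra.TensorProduct.lift ((Algebra.ofId A B).comp g) (AlgHom.id A B)
        fun _ _ => Commute.all _ _
    have hπI : (KaehlerDifferential.ideal A B).map π ≤ RingHom.ker g := by
      rw [ideal_eq_span A, Ideal.map_span, Ideal.span_le]
      rintro _ ⟨_, ⟨b, rfl⟩, rfl⟩
      simp [π, delta]
    apply le_antisymm
    · intro b hb
      rw [RingHom.mem_ker, RingHom.comp_apply, Ideal.Quotient.eq_zero_iff_mem] at hb
      have hb' : Ideal.Quotient.mk (KaehlerDifferential.ideal A B ^ (n + 1)) ((1 : B) ⊗ₜ[A] b) ∈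
          ((RingHom.ker g).map (Algebra.TensorProduct.includeLeft : B →ₐ[A] B ⊗[A] B)).map
            (Ideal.Quotient.mk _) := by
        rw [← Ideal.map_coe (Algebra.TensorProduct.includeLeft : B →ₐ[A] B ⊗[A] B), Ideal.map_map]
        exact hb
      rw [Ideal.mem_quotient_iff_mem_sup] at hb'
      obtain ⟨p, hp, q, hq, e⟩ := Submodule.mem_sup.1 hb'
      have hp' : π p = 0 := by
        have h0 := Ideal.mem_map_of_mem π hp
        rw [← Ideal.map_coe π, ← Ideal.map_coe (Algebra.TensorProduct.includeLeft :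
          B →ₐ[A] B ⊗[A] B), Ideal.map_map] at h0
        have : (RingHom.ker g).map ((π : B ⊗[A] B →+* B).comp
            (Algebra.TensorProduct.includeLeft : B →ₐ[A] B ⊗[A] B)) = ⊥ := by
          rw [Ideal.map_eq_bot_iff_le_ker]
          intro k hk
          rw [RingHom.mem_ker] at hk ⊢
          simp [π, hk]
        rwa [this, Ideal.mem_bot] at h0
      have hq' : π q ∈ RingHom.ker g ^ (n + 1) :=
        Ideal.pow_right_mono hπI _ (by rw [← Ideal.map_pow]; exact Ideal.mem_map_of_mem _ hq)
      have : π ((1 : B) ⊗ₜ[A] b) = b := by simp [π]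
      rwa [← this, ← e, map_add, hp', zero_add]
    · intro b hb
      let K : Ideal (B ⊗[A] B) :=
        (RingHom.ker g).map (Algebra.TensorProduct.includeLeftRingHom : B →+* B ⊗[A] B)
      let J : Ideal (B ⊗[A] B) := KaehlerDifferential.ideal A B ⊔ K
      have h1 : RingHom.ker g ≤
          J.comap (Algebra.TensorProduct.includeRight : B →ₐ[A] B ⊗[A] B).toRingHom := by
        intro k hk
        rw [Ideal.mem_comap]
        change (1 : B) ⊗ₜ[A] k ∈ J
        rw [one_tmul_eq]
        exact J.add_mem (Submodule.mem_sup_right (Ideal.mem_map_of_mem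
          (Algebra.TensorProduct.includeLeftRingHom : B →+* B ⊗[A] B) hk))
          (Submodule.mem_sup_left (delta_mem A k))
      have h2 : ∀ k, J ^ k ≤ KaehlerDifferential.ideal A B ^ k ⊔ K := by
        intro k
        induction k with
        | zero => rw [pow_zero, pow_zero]; exact le_sup_left
        | succ k ih =>
          rw [pow_succ, pow_succ]
          refine (mul_le_mul' ih le_rfl).trans ?_
          rw [Ideal.sup_mul, Ideal.mul_sup]
          exact sup_le (sup_le le_sup_left (le_sup_of_le_right Ideal.mul_le_right))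
            (le_sup_of_le_right Ideal.mul_le_left)
      have h3 := Ideal.le_comap_pow
        (Algebra.TensorProduct.includeRight : B →ₐ[A] B ⊗[A] B).toRingHom (n + 1)
        (Ideal.pow_right_mono h1 (n + 1) hb)
      rw [Ideal.mem_comap] at h3
      obtain ⟨p, hp, q, hq, e⟩ := Submodule.mem_sup.1 (h2 _ h3)
      rw [RingHom.mem_ker, RingHom.comp_apply, Ideal.Quotient.eq_zero_iff_mem]
      change Ideal.Quotient.mk _ ((1 : B) ⊗ₜ[A] b) ∈ L
      have e' : (1 : B) ⊗ₜ[A] b = p + q := e.symm
      rw [e', map_add, Ideal.Quotient.eq_zero_iff_mem.2 hp, zero_add]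
      have := Ideal.mem_map_of_mem (Ideal.Quotient.mk (KaehlerDifferential.ideal A B ^ (n + 1))) hq
      rw [Ideal.map_map] at this
      exact this

end tower

section localizationBase

variable (n : ℕ) (A B A' B' : Type u) [CommRing A] [CommRing B] [Algebra A B]
    [CommRing A'] [CommRing B'] [Algebra A A'] [Algebra B B'] [Algebra A' B'] [Algebra A B']
    [IsScalarTower A A' B'] [IsScalarTower A B B']

theorem map_bijective_of_epi
    (h : ∀ {R : Type u} [CommRing R] (f g : A' →+* R),
      f.comp (algebraMap A A') = g.comp (algebraMap A A') → f = g) :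
    Function.Bijective (_root_.PP16.map n A B' A' B') := by
  let gl : B' →ₐ[A'] B' ⊗[A] B' :=
    { toRingHom := (Algebra.TensorProduct.includeRight : B' →ₐ[A] B' ⊗[A] B').toRingHom
      commutes' := fun a => DFunLike.congr_fun (h
        ((Algebra.TensorProduct.includeRight : B' →ₐ[A] B' ⊗[A] B').toRingHom.comp
          (algebraMap A' B')) (algebraMap A' (B' ⊗[A] B')) (by
          ext a
          simp only [RingHom.comp_apply, ← IsScalarTower.algebraMap_apply]
          exact (Algebra.TensorProduct.includeRight : B' →ₐ[A] B' ⊗[A] B').commutes a)) a }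
  let L : B' ⊗[A'] B' →ₐ[A'] B' ⊗[A] B' :=
    Algebra.TensorProduct.lift Algebra.TensorProduct.includeLeft gl fun _ _ => Commute.all _ _
  have hinj : Function.Injective (_root_.PP16.tensorMap A B' A' B') := by
    refine Function.LeftInverse.injective (g := L) fun x => ?_
    induction x using TensorProduct.induction_on with
    | zero => simp
    | tmul c d =>
      rw [_root_.PP16.tensorMap_tmul, Algebra.algebraMap_self_apply, Algebra.algebraMap_self_apply]
      change (c ⊗ₜ[A] (1 : B')) * ((1 : B') ⊗ₜ[A] d) = _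
      rw [Algebra.TensorProduct.tmul_mul_tmul, mul_one, one_mul]
    | add x y hx hy => rw [map_add, map_add, hx, hy]
  have hs : Function.Surjective (algebraMap B' B') := Function.surjective_id
  refine ⟨(RingHom.injective_iff_ker_eq_bot _).2 ?_,
    map_surjective_of n A B' A' B' (tensorMap_surjective A B' A' B' hs)⟩
  rw [ker_map n A B' A' B' (tensorMap_surjective A B' A' B' hs) (ideal_map_eq A B' A' B' hs),
    (RingHom.injective_iff_ker_eq_bot _).1 hinj, Ideal.map_bot]

theorem eq_zero_of_mem_pow {P : Type u} [CommRing P] [Algebra B P] (J : Ideal P)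
    (hJ : J ^ (n + 1) = ⊥) (g : B' →+* B' ⊗[B] P) (back : B' ⊗[A'] B' →+* B' ⊗[B] P)
    (hgB : ∀ b, ∃ j ∈ J, g (algebraMap B B' b) = algebraMap B B' b ⊗ₜ[B] 1 + 1 ⊗ₜ[B] j)
    (hgA : ∀ a, g (algebraMap A' B' a) = algebraMap A' B' a ⊗ₜ[B] (1 : P))
    (hext : ∀ {R : Type u} [CommRing R] (f f' : B' →+* R),
      f.comp (algebraMap B B') = f'.comp (algebraMap B B') →
      f.comp (algebraMap A' B') = f'.comp (algebraMap A' B') → f = f')
    (hb : ∀ y, back (delta A' y) = g y - y ⊗ₜ[B] (1 : P)) :
    ∀ x ∈ KaehlerDifferential.ideal A' B' ^ (n + 1), back x = 0 := by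
  let L : Ideal (B' ⊗[B] P) := J.map (Algebra.TensorProduct.includeRight : P →ₐ[B] B' ⊗[B] P)
  have hL : L ^ (n + 1) = ⊥ := by rw [← Ideal.map_pow, hJ, Ideal.map_bot]
  have hdiff : ∀ y, g y - y ⊗ₜ[B] (1 : P) ∈ L := by
    intro y
    rw [← Ideal.Quotient.eq]
    refine DFunLike.congr_fun (hext ((Ideal.Quotient.mk L).comp g)
      ((Ideal.Quotient.mk L).comp Algebra.TensorProduct.includeLeftRingHom) ?_ ?_) y
    · ext b
      obtain ⟨j, hj, e⟩ := hgB b
      change Ideal.Quotient.mk L (g (algebraMap B B' b)) = Ideal.Quotient.mk L _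
      rw [Ideal.Quotient.eq, e]
      simpa using Ideal.mem_map_of_mem
        (Algebra.TensorProduct.includeRight : P →ₐ[B] B' ⊗[B] P) hj
    · ext a
      exact congrArg _ (hgA a)
  have h : (KaehlerDifferential.ideal A' B').map back ≤ L := by
    rw [ideal_eq_span A', Ideal.map_span, Ideal.span_le]
    rintro _ ⟨_, ⟨y, rfl⟩, rfl⟩
    rw [hb]; exact hdiff y
  intro x hx
  have := Ideal.pow_right_mono h (n + 1)
    (by rw [← Ideal.map_pow]; exact Ideal.mem_map_of_mem _ hx)
  rwa [hL, Ideal.mem_bot] at this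

/-- Principal parts commute with base change, given the second-factor extension. -/
theorem isPushout_P
    (g : B' →ₐ[A] B' ⊗[B] _root_.PP16.P n A B)
    (hgB : ∀ b, g (algebraMap B B' b) = (1 : B') ⊗ₜ[B] _root_.PP16.dn n A B b)
    (hgA : ∀ a, g (algebraMap A' B' a) = algebraMap A' B' a ⊗ₜ[B] (1 : _root_.PP16.P n A B))
    (hext : ∀ {R : Type u} [CommRing R] (f f' : B' →+* R),
      f.comp (algebraMap B B') = f'.comp (algebraMap B B') →
      f.comp (algebraMap A' B') = f'.comp (algebraMap A' B') → f = f') :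
    Algebra.IsPushout B B' (_root_.PP16.P n A B) (_root_.PP16.P n A' B') := by
  let ρ : _root_.PP16.P n A B →ₐ[B] _root_.PP16.P n A' B' :=
    { toRingHom := (_root_.PP16.map n A B A' B').toRingHom
      commutes' := fun b => by
        rw [IsScalarTower.algebraMap_apply B B' (_root_.PP16.P n A' B')]
        exact _root_.PP16.map_algebraMap n A B A' B' b }
  let fwd : B' ⊗[B] _root_.PP16.P n A B →ₐ[B'] _root_.PP16.P n A' B' :=
    Algebra.TensorProduct.lift (Algebra.ofId _ _) ρ fun _ _ => Commute.all _ _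
  have hcomm : ∀ (a : A') (x y : B'),
      algebraMap A' B' a * x * y = x * (algebraMap A' B' a * y) := fun a x y => by ring
  let fl : B' →ₐ[A'] (B' ⊗[B] _root_.PP16.P n A B) :=
    { toRingHom := (Algebra.TensorProduct.includeLeftRingHom : B' →+* (B' ⊗[B] _root_.PP16.P n A B))
      commutes' := fun _ => rfl }
  let fr : B' →ₐ[A'] (B' ⊗[B] _root_.PP16.P n A B) :=
    { toRingHom := g.toRingHom
      commutes' := fun a => hgA a }
  let back₁ : B' ⊗[A'] B' →+* (B' ⊗[B] _root_.PP16.P n A B) :=
    (Algebra.TensorProduct.lift fl fr fun x y => @Commute.all (B' ⊗[B] _root_.PP16.P n A B) (CommMonoid.toCommSemigroup.toCommMagma) (fl x) (fr y)).toRingHom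
  have hb₀ : ∀ x y, back₁ (x ⊗ₜ y) = (x ⊗ₜ[B] (1 : _root_.PP16.P n A B)) * g y := fun x y => rfl
  have hker : ∀ x ∈ KaehlerDifferential.ideal A' B' ^ (n + 1), back₁ x = 0 :=
    eq_zero_of_mem_pow n B A' B' (_root_.PP16.augIdeal n A B)
      (by rw [_root_.PP16.augIdeal, ← Ideal.map_pow, Ideal.map_quotient_self])
      g.toRingHom back₁
      (fun b => ⟨Ideal.Quotient.mk _ (delta A b), Ideal.mem_map_of_mem _ (delta_mem A b), by
        change g _ = _
        rw [hgB, Algebra.algebraMap_eq_smul_one, TensorProduct.smul_tmul, ← TensorProduct.tmul_add,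
          ← Algebra.algebraMap_eq_smul_one]
        congr 1
        change Ideal.Quotient.mk _ _ = Ideal.Quotient.mk _ _ + Ideal.Quotient.mk _ _
        rw [← map_add]
        exact congrArg _ (one_tmul_eq A b)⟩)
      hgA hext
      (fun y => by
        rw [delta, map_sub, hb₀, hb₀, map_one, mul_one]
        congr 1
        exact one_mul (g y))
  let back : _root_.PP16.P n A' B' →+* (B' ⊗[B] _root_.PP16.P n A B) := Ideal.Quotient.lift _ back₁ hker
  have hbk : ∀ x y, back (Ideal.Quotient.mk _ (x ⊗ₜ y)) =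
      (x ⊗ₜ[B] (1 : _root_.PP16.P n A B)) * g y := fun x y => rfl
  have hfw : ∀ x p, fwd (x ⊗ₜ p) = algebraMap B' _ x * _root_.PP16.map n A B A' B' p :=
    fun x p => rfl
  have h1 : ∀ z : (B' ⊗[B] _root_.PP16.P n A B), back (fwd z) = z := by
    intro z
    induction z using TensorProduct.induction_on with
    | zero => simp
    | tmul x p =>
      obtain ⟨p, rfl⟩ := Ideal.Quotient.mk_surjective p
      induction p using TensorProduct.induction_on with
      | zero => simp
      | tmul b c =>
        rw [hfw, _root_.PP16.map_mk, _root_.PP16.tensorMap_tmul, map_mul]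
        change back (Ideal.Quotient.mk _ (x ⊗ₜ[A'] (1 : B'))) * _ = _
        rw [hbk, hbk, map_one, mul_one, hgB, Algebra.TensorProduct.tmul_mul_tmul,
          Algebra.TensorProduct.tmul_mul_tmul, mul_one, one_mul]
        have e : (x * algebraMap B B' b) ⊗ₜ[B] (_root_.PP16.dn n A B c) =
            x ⊗ₜ[B] (b • _root_.PP16.dn n A B c) := by
          rw [mul_comm, ← Algebra.smul_def, TensorProduct.smul_tmul]
        rw [one_mul, e]
        congr 1
        change Ideal.Quotient.mk _ (b • ((1 : B) ⊗ₜ[A] c)) = _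
        rw [TensorProduct.smul_tmul', smul_eq_mul, mul_one]
      | add p q hp hq =>
        rw [map_add, TensorProduct.tmul_add, map_add, map_add, hp, hq]
    | add p q hp hq => rw [map_add, map_add, hp, hq]
  have hg' : ∀ y, fwd (g y) = Ideal.Quotient.mk _ ((1 : B') ⊗ₜ[A'] y) := by
    intro y
    refine DFunLike.congr_fun (hext (fwd.toRingHom.comp g.toRingHom)
      (_root_.PP16.dn n A' B').toRingHom ?_ ?_) y
    · ext b
      change fwd (g (algebraMap B B' b)) = _
      rw [hgB, hfw, map_one, one_mul, _root_.PP16.map_dn]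
      rfl
    · ext a
      change fwd (g (algebraMap A' B' a)) = _root_.PP16.dn n A' B' (algebraMap A' B' a)
      rw [hgA, hfw, map_one, mul_one, AlgHom.commutes,
        ← IsScalarTower.algebraMap_apply A' B' (_root_.PP16.P n A' B')]
  have h2 : ∀ z, fwd (back z) = z := by
    intro z
    obtain ⟨z, rfl⟩ := Ideal.Quotient.mk_surjective z
    induction z using TensorProduct.induction_on with
    | zero => simp
    | tmul x y =>
      rw [hbk, map_mul, hfw, map_one, mul_one, hg']
      change Ideal.Quotient.mk _ (x ⊗ₜ[A'] (1 : B')) * Ideal.Quotient.mk _ _ = _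
      rw [← map_mul, Algebra.TensorProduct.tmul_mul_tmul, mul_one, one_mul]
    | add p q hp hq => rw [map_add, map_add, map_add, hp, hq]
  let e : (B' ⊗[B] _root_.PP16.P n A B) ≃ₐ[B'] _root_.PP16.P n A' B' :=
    AlgEquiv.ofBijective fwd ⟨Function.LeftInverse.injective h1, fun z => ⟨back z, h2 z⟩⟩
  let _ := Algebra.TensorProduct.rightAlgebra (R := B) (A := B') (B := _root_.PP16.P n A B)
  refine Algebra.IsPushout.of_equiv (h := TensorProduct.isPushout) e ?_
  refine RingHom.ext fun p => ?_
  change fwd ((1 : B') ⊗ₜ p) = _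
  rw [hfw, map_one, one_mul]
  rfl

end localizationBase

theorem isUnit_tmul_add {B B' P : Type u} [CommRing B] [CommRing B'] [CommRing P] [Algebra B B']
    [Algebra B P] {x : B'} (hx : IsUnit x) {j : P} (hj : IsNilpotent j) :
    IsUnit (x ⊗ₜ[B] (1 : P) + (1 : B') ⊗ₜ[B] j) :=
  (hj.map (Algebra.TensorProduct.includeRight : P →ₐ[B] B' ⊗[B] P)).isUnit_add_left_of_commute
    (hx.map (Algebra.TensorProduct.includeLeftRingHom : B' →+* B' ⊗[B] P)) (Commute.all _ _)

theorem isNilpotent_delta (n : ℕ) (A : Type u) {B : Type u} [CommRing A] [CommRing B] [Algebra A B]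
    (b : B) : IsNilpotent (Ideal.Quotient.mk (KaehlerDifferential.ideal A B ^ (n + 1)) (delta A b)) :=
  ⟨n + 1, by
    rw [← map_pow, Ideal.Quotient.eq_zero_iff_mem]
    exact Ideal.pow_mem_pow (delta_mem A b) _⟩

theorem algebraMap_tmul_one {B B' P : Type u} [CommRing B] [CommRing B'] [CommRing P]
    [Algebra B B'] [Algebra B P] (b : B) :
    algebraMap B B' b ⊗ₜ[B] (1 : P) = (1 : B') ⊗ₜ[B] algebraMap B P b := by
  rw [Algebra.algebraMap_eq_smul_one, Algebra.algebraMap_eq_smul_one, TensorProduct.smul_tmul]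

/-- Lift to a localization with values in a tensor product. -/
noncomputable def liftU {B B' P : Type u} [CommRing B] [CommRing B'] [CommRing P] [Algebra B B']
    [Algebra B P] (S : Submonoid B) [IsLocalization S B'] (f : B →+* B' ⊗[B] P)
    (hu : ∀ y : S, IsUnit (f y)) : B' →+* B' ⊗[B] P := IsLocalization.lift hu

theorem liftU_eq {B B' P : Type u} [CommRing B] [CommRing B'] [CommRing P] [Algebra B B']
    [Algebra B P] (S : Submonoid B) [IsLocalization S B'] (f : B →+* B' ⊗[B] P)
    (hu : ∀ y : S, IsUnit (f y)) (b : B) : liftU S f hu (algebraMap B B' b) = f b :=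
  IsLocalization.lift_eq hu b

theorem tensor_mul_comm {B B' P : Type u} [CommRing B] [CommRing B'] [CommRing P]
    [Algebra B B'] [Algebra B P] (x y : B' ⊗[B] P) : x * y = y * x := mul_comm x y

end Groth.Agent.PP16
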