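import Groth.Agent.PP16.Detect
import Groth.Agent.PP16.Maps
import Mathlib.RingTheory.Kaehler.TensorProduct

set_option autoImplicit false
set_option linter.unusedSectionVars false

open scoped TensorProduct BigOperators

namespace Groth.Agent.PP16

universe u

variable (A B A' B' : Type u) [CommRing A] [CommRing B] [Algebra A B]
  [CommRing A'] [CommRing B'] [Algebra A' B'] [Algebra A A'] [Algebra B B'] [Algebra A B']
  [IsScalarTower A A' B'] [IsScalarTower A B B']

/-- `delta` is additive and linear. -/
noncomputable def deltaLin : B →ₗ[A] B ⊗[A] B :=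
  (TensorProduct.mk A B B 1) - (TensorProduct.mk A B B).flip 1

theorem deltaLin_apply (b : B) : deltaLin A B b = delta A b := rfl

theorem span_tensorMap_ideal [h : Algebra.IsPushout A A' B B'] (k : ℕ) :
    ((KaehlerDifferential.ideal A' B' ^ k).restrictScalars B' : Submodule B' (B' ⊗[A'] B')) ≤
      Submodule.span B' (_root_.PP16.tensorMap A B A' B' '' ↑(KaehlerDifferential.ideal A B ^ k)) := by
  set f := _root_.PP16.tensorMap A B A' B'
  have hI : KaehlerDifferential.ideal A' B' ≤ (KaehlerDifferential.ideal A B).map f := by
    rw [ideal_eq_span A', Ideal.span_le]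
    rintro _ ⟨b', rfl⟩
    induction b' using h.out.inductionOn with
    | zero => rw [← deltaLin_apply, map_zero]; exact zero_mem _
    | tmul b =>
      change delta A' (algebraMap B B' b) ∈ _
      rw [← tensorMap_delta A B A' B']
      exact Ideal.mem_map_of_mem _ (delta_mem A b)
    | smul s n hn =>
      rw [← deltaLin_apply, map_smul]
      exact Submodule.smul_of_tower_mem _ s hn
    | add a b ha hb => rw [← deltaLin_apply, map_add]; exact add_mem ha hb
  intro x hx
  have hx' : x ∈ (KaehlerDifferential.ideal A B ^ k).map f := by
    rw [Ideal.map_pow]; exact Ideal.pow_right_mono hI k hx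
  clear hx
  have himg : ∀ z : B' ⊗[A'] B', z ∈ Submodule.span B' (Set.range f) := by
    intro z
    induction z using TensorProduct.induction_on with
    | zero => simp
    | add a b ha hb => exact add_mem ha hb
    | tmul a b =>
      have key : (1 : B') ⊗ₜ[A'] b ∈ Submodule.span B' (Set.range f) := by
        induction b using h.out.inductionOn with
        | zero => simp
        | tmul c => exact Submodule.subset_span ⟨1 ⊗ₜ c, by simp [f, _root_.PP16.tensorMap_tmul]⟩
        | smul s n hn => rw [TensorProduct.tmul_smul]; exact Submodule.smul_of_tower_mem _ s hn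
        | add u v hu hv => rw [TensorProduct.tmul_add]; exact add_mem hu hv
      have : a ⊗ₜ[A'] b = a • ((1 : B') ⊗ₜ[A'] b) := by simp [TensorProduct.smul_tmul']
      rw [this]; exact Submodule.smul_mem _ a key
  induction hx' using Submodule.span_induction with
  | mem y hy => exact Submodule.subset_span hy
  | zero => exact zero_mem _
  | add a b _ _ ha hb => exact add_mem ha hb
  | smul z y hy' hy =>
    clear hy'
    induction hy using Submodule.span_induction with
    | mem w hw =>
      obtain ⟨v, hv, rfl⟩ := hw
      have := himg z
      induction this using Submodule.span_induction with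
      | mem q hq =>
        obtain ⟨q, rfl⟩ := hq
        rw [smul_eq_mul, ← map_mul]
        exact Submodule.subset_span ⟨_, Ideal.mul_mem_left _ q hv, rfl⟩
      | zero => simp
      | add a b _ _ ha hb => rw [add_smul]; exact add_mem ha hb
      | smul c q _ hq => rw [smul_assoc]; exact Submodule.smul_mem _ c hq
    | zero => simp
    | add a b _ _ ha hb => rw [smul_add]; exact add_mem ha hb
    | smul c w _ hw => rw [smul_comm]; exact Submodule.smul_mem _ c hw

theorem isDiffSmooth_baseChange [h : Algebra.IsPushout A A' B B']
    (hB : _root_.PP16.IsDiffSmooth A B) : _root_.PP16.IsDiffSmooth A' B' := by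
  have := hB.1
  have hΩ : Module.Projective B' (KaehlerDifferential A' B') :=
    Module.Projective.of_equiv (KaehlerDifferential.tensorKaehlerEquiv A A' B B')
  have hw : Submodule.span B'
      (Set.range fun b : B => KaehlerDifferential.D A' B' (algebraMap B B' b)) = ⊤ := by
    rw [eq_top_iff, ← KaehlerDifferential.span_range_derivation A' B', Submodule.span_le]
    rintro _ ⟨b', rfl⟩
    induction b' using h.out.inductionOn with
    | zero => simp
    | tmul b => exact Submodule.subset_span ⟨b, rfl⟩
    | smul s n hn => rw [Derivation.map_smul]; exact Submodule.smul_of_tower_mem _ s hn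
    | add a b ha hb => rw [map_add]; exact add_mem ha hb
  refine isDiffSmooth_of_detect A' B'
    (fun b : B => KaehlerDifferential.D A' B' (algebraMap B B' b)) hw
    (fun b => delta A' (algebraMap B B' b)) (fun b => delta_mem A' _) (fun b => rfl) fun ι _ => ?_
  obtain ⟨Λ, hΛ0, hΛ⟩ := exists_detect A B hB ι
  let _ : Module B (SymmetricPower B' ι (KaehlerDifferential A' B')) :=
    Module.compHom _ (algebraMap B B')
  have : IsScalarTower B B' (SymmetricPower B' ι (KaehlerDifferential A' B')) :=
    IsScalarTower.of_algebraMap_smul fun r x => rfl
  let _ : Module A (SymmetricPower B' ι (KaehlerDifferential A' B')) :=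
    Module.compHom _ (algebraMap A B')
  have : IsScalarTower A B' (SymmetricPower B' ι (KaehlerDifferential A' B')) :=
    IsScalarTower.of_algebraMap_smul fun r x => rfl
  have : IsScalarTower A B (SymmetricPower B' ι (KaehlerDifferential A' B')) :=
    IsScalarTower.to₁₂₄ A B B' _
  let _ : Module A' (SymmetricPower B' ι (KaehlerDifferential A' B')) :=
    Module.compHom _ (algebraMap A' B')
  have : IsScalarTower A' B' (SymmetricPower B' ι (KaehlerDifferential A' B')) :=
    IsScalarTower.of_algebraMap_smul fun r x => rfl
  have : IsScalarTower A A' (SymmetricPower B' ι (KaehlerDifferential A' B')) :=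
    IsScalarTower.to₁₂₄ A A' B' _
  let f : MultilinearMap B (fun _ : ι => KaehlerDifferential A B)
      (SymmetricPower B' ι (KaehlerDifferential A' B')) :=
    MultilinearMap.compLinearMap ((SymmetricPower.tprod B').restrictScalars B)
      fun _ => KaehlerDifferential.map A A' B B'
  let j := symLift f fun p x => by
    simp only [f, MultilinearMap.compLinearMap_apply, MultilinearMap.coe_restrictScalars]
    exact SymmetricPower.tprod_equiv p fun i => KaehlerDifferential.map A A' B B' (x i)
  let g : B' →ₗ[A'] SymmetricPower B' ι (KaehlerDifferential A' B') :=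
    h.out.lift (((j ∘ₗ Λ).restrictScalars A) ∘ₗ
      (Algebra.TensorProduct.includeRight : B →ₐ[A] B ⊗[A] B).toLinearMap)
  let Λ' : B' ⊗[A'] B' →ₗ[B'] SymmetricPower B' ι (KaehlerDifferential A' B') :=
    g.liftBaseChange B'
  have hcomp : ∀ x, Λ' (_root_.PP16.tensorMap A B A' B' x) = j (Λ x) := by
    intro x
    induction x using TensorProduct.induction_on with
    | zero => simp
    | add a b ha hb => simp [ha, hb]
    | tmul a b =>
      rw [_root_.PP16.tensorMap_tmul]
      change algebraMap B B' a • g (algebraMap B B' b) = _
      rw [show g (algebraMap B B' b) = j (Λ ((1 : B) ⊗ₜ b)) from h.out.lift_eq _ b,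
        algebraMap_smul, ← map_smul, ← map_smul, TensorProduct.smul_tmul', smul_eq_mul, mul_one]
  refine ⟨Λ', fun x hx => ?_, fun c => ?_⟩
  · have := span_tensorMap_ideal A B A' B' (Fintype.card ι + 1) hx
    clear hx
    induction this using Submodule.span_induction with
    | mem y hy =>
      obtain ⟨v, hv, rfl⟩ := hy
      rw [hcomp, hΛ0 v hv, map_zero]
    | zero => simp
    | add a b _ _ ha hb => rw [map_add, ha, hb, add_zero]
    | smul r y _ hy => rw [map_smul, hy, smul_zero]
  · have : ∏ i, delta A' (algebraMap B B' (c i)) =
        _root_.PP16.tensorMap A B A' B' (∏ i, delta A (c i)) := by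
      simp only [map_prod, tensorMap_delta]
    rw [this, hcomp, hΛ, symLift_tprod]
    simp only [f, MultilinearMap.compLinearMap_apply, MultilinearMap.coe_restrictScalars,
      KaehlerDifferential.map_D]

end Groth.Agent.PP16
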