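import Groth.Agent.PP16.Gr
import Mathlib.RingTheory.Nilpotent.Exp

set_option autoImplicit false
set_option linter.unusedSectionVars false

open scoped TensorProduct BigOperators
open MvPolynomial

namespace Groth.Agent.PP16

universe u

section

variable (A : Type u) {B : Type u} [CommRing A] [CommRing B] [Algebra A B] {σ : Type u}
  (i : KaehlerDifferential A B →ₗ[B] σ →₀ B)

/-- The ring map `b ↦ b + ε lin(i db)` used to define the derivation `Δ`. -/
noncomputable def dualHomC : B →+* DualNumber (MvPolynomial σ B) where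
  toFun b := TrivSqZeroExt.inl (C b) + TrivSqZeroExt.inr (lin B σ (i (KaehlerDifferential.D A B b)))
  map_one' := by ext <;> simp
  map_zero' := by ext <;> simp
  map_add' x y := by ext <;> simp [map_add]
  map_mul' x y := by
    apply TrivSqZeroExt.ext
    · simp
    · simp [Derivation.leibniz, MvPolynomial.smul_eq_C_mul, map_add, map_smul]
      ring

/-- Extension to polynomials. -/
noncomputable def dualHom : MvPolynomial σ B →+* DualNumber (MvPolynomial σ B) :=
  eval₂Hom (dualHomC A i) fun j => TrivSqZeroExt.inl (X j)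

theorem fst_dualHom (p : MvPolynomial σ B) : (dualHom A i p).fst = p := by
  induction p using MvPolynomial.induction_on with
  | C a => simp [dualHom, dualHomC]
  | add p q hp hq => rw [map_add, TrivSqZeroExt.fst_add, hp, hq]
  | mul_X p j hp => rw [map_mul, TrivSqZeroExt.fst_mul, hp]; simp [dualHom]

/-- The derivation `Δ` with `Δ b = lin(i db)`, `Δ X = 0`. -/
noncomputable def delDer : MvPolynomial σ B →ₗ[A] MvPolynomial σ B where
  toFun p := (dualHom A i p).snd
  map_add' p q := by simp
  map_smul' a p := by
    rw [Algebra.smul_def, map_mul, TrivSqZeroExt.snd_mul]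
    simp [dualHom, dualHomC, IsScalarTower.algebraMap_apply A B (MvPolynomial σ B),
      MvPolynomial.algebraMap_eq, Algebra.smul_def, op_smul_eq_mul]

theorem delDer_C (b : B) : delDer A i (C b) = lin B σ (i (KaehlerDifferential.D A B b)) := by
  simp [delDer, dualHom, dualHomC]

theorem delDer_X (j : σ) : delDer A i (X j) = 0 := by simp [delDer, dualHom]

theorem delDer_mul (p q : MvPolynomial σ B) :
    delDer A i (p * q) = p * delDer A i q + delDer A i p * q := by
  simp [delDer, TrivSqZeroExt.snd_mul, fst_dualHom]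

theorem delDer_mem (p : MvPolynomial σ B) : delDer A i p ∈ idealOfVars σ B := by
  induction p using MvPolynomial.induction_on with
  | C a => rw [delDer_C]; exact lin_mem _
  | add p q hp hq => rw [map_add]; exact add_mem hp hq
  | mul_X p j hp =>
    rw [delDer_mul, delDer_X, mul_zero, zero_add]
    exact Ideal.mul_mem_right _ _ hp

theorem delDer_pow : ∀ (k : ℕ), ∀ p ∈ idealOfVars σ B ^ k, delDer A i p ∈ idealOfVars σ B ^ (k + 1)
  | 0, p, _ => by simpa using delDer_mem A i p
  | k + 1, p, hp => by
    rw [pow_succ'] at hp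
    refine Submodule.mul_induction_on hp (fun a ha b hb => ?_) fun x y hx hy => by
      rw [map_add]; exact add_mem hx hy
    rw [delDer_mul]
    have ha2 : delDer A i a ∈ idealOfVars σ B ^ 2 := by
      induction ha using Submodule.span_induction with
      | mem x hx => obtain ⟨j, rfl⟩ := hx; rw [delDer_X]; exact zero_mem _
      | zero => simp
      | add x y _ _ hx hy => rw [map_add]; exact add_mem hx hy
      | smul c x hx hx' =>
        rw [smul_eq_mul, delDer_mul, pow_two]
        exact add_mem (Ideal.mul_mem_left _ _ (by rwa [← pow_two]))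
          (Ideal.mul_mem_mul (delDer_mem A i c) hx)
    refine add_mem ?_ ?_
    · rw [pow_succ']
      exact Ideal.mul_mem_mul ha (delDer_pow k b hb)
    · rw [show k + 1 + 1 = 2 + k by omega, pow_add]
      exact Ideal.mul_mem_mul ha2 hb

theorem delDer_iterate : ∀ (k : ℕ) (p : MvPolynomial σ B),
    (delDer A i)^[k] p ∈ idealOfVars σ B ^ k
  | 0, p => by simp
  | k + 1, p => by
    rw [Function.iterate_succ_apply']
    exact delDer_pow A i k _ (delDer_iterate k p)

theorem exists_taylor_charZero [Algebra ℚ B] (m : ℕ) :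
    ∃ ψ : B →ₐ[A] Groth.Agent.Diff16.Trunc B σ m,
      ∀ b, ψ b - Ideal.Quotient.mk _ (C b + lin B σ (i (KaehlerDifferential.D A B b))) ∈
        (idealOfVars σ B ^ 2).map (Ideal.Quotient.mk _) := by
  let q : MvPolynomial σ B →ₐ[A] Groth.Agent.Diff16.Trunc B σ m := Ideal.Quotient.mkₐ A _
  have hq : ∀ p, q p = Ideal.Quotient.mk _ p := fun p => rfl
  let D : Groth.Agent.Diff16.Trunc B σ m →ₗ[A] Groth.Agent.Diff16.Trunc B σ m :=
    Submodule.liftQ ((idealOfVars σ B ^ (m + 1)).restrictScalars A) (q.toLinearMap ∘ₗ delDer A i)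
      fun p hp => Ideal.Quotient.eq_zero_iff_mem.2
        (Ideal.pow_le_pow_right (Nat.le_succ _) (delDer_pow A i _ p hp))
  have hD : ∀ p, D (q p) = q (delDer A i p) := fun p => rfl
  have hDk : ∀ (k : ℕ) p, (D ^ k) (q p) = q ((delDer A i)^[k] p) := by
    intro k
    induction k with
    | zero => simp
    | succ k ih =>
      intro p
      rw [pow_succ' D k, Module.End.mul_apply, ih, hD, Function.iterate_succ_apply']
  have hsurj : Function.Surjective q := Ideal.Quotient.mk_surjective
  have hnil : IsNilpotent D := ⟨m + 1, LinearMap.ext fun x => by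
    obtain ⟨p, rfl⟩ := hsurj x
    rw [hDk, LinearMap.zero_apply, hq, Ideal.Quotient.eq_zero_iff_mem]
    exact delDer_iterate A i _ p⟩
  have hder : ∀ x y, D (x * y) = x * D y + D x * y := fun x y => by
    obtain ⟨x, rfl⟩ := hsurj x
    obtain ⟨y, rfl⟩ := hsurj y
    rw [← map_mul, hD, hD, hD, delDer_mul, map_add, map_mul, map_mul]
  have hzero : ∀ b : A, D (algebraMap A _ b) = 0 := fun a => by
    rw [← q.commutes, hD, IsScalarTower.algebraMap_apply A B (MvPolynomial σ B),
      MvPolynomial.algebraMap_eq, delDer_C, Derivation.map_algebraMap, map_zero, map_zero, map_zero]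
  have hDpow : (D ^ (m + 1 + 1)) = 0 := by
    refine LinearMap.ext fun x => ?_
    obtain ⟨p, rfl⟩ := hsurj x
    rw [hDk, LinearMap.zero_apply, hq, Ideal.Quotient.eq_zero_iff_mem]
    exact Ideal.pow_le_pow_right (Nat.le_succ _) (delDer_iterate A i _ p)
  have hexp : ∀ x, IsNilpotent.exp D x =
      ∑ k ∈ Finset.range (m + 1 + 1), (k.factorial : ℚ)⁻¹ • (D ^ k) x := fun x => by
    rw [IsNilpotent.exp_eq_sum hDpow, LinearMap.sum_apply]
    rfl
  have hone : IsNilpotent.exp D 1 = 1 := by
    have h1 : D 1 = 0 := by simpa using hzero 1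
    rw [hexp, Finset.sum_range_succ', Finset.sum_eq_zero fun k _ => ?_]
    · simp
    · rw [pow_succ D k, Module.End.mul_apply, h1, map_zero, smul_zero]
  let E : Groth.Agent.Diff16.Trunc B σ m →ₐ[A] Groth.Agent.Diff16.Trunc B σ m :=
    AlgHom.ofLinearMap (IsNilpotent.exp D) hone
      (Module.End.exp_mul_of_derivation A _ D hder hnil)
  refine ⟨E.comp (q.comp (IsScalarTower.toAlgHom A B (MvPolynomial σ B))), fun b => ?_⟩
  change IsNilpotent.exp D (q (C b)) - q (C b + lin B σ (i (KaehlerDifferential.D A B b))) ∈ _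
  rw [hexp, Finset.sum_range_succ', Finset.sum_range_succ', map_add, ← delDer_C, ← hD]
  simp only [zero_add, pow_one, pow_zero, Nat.factorial_one, Nat.factorial_zero, Nat.cast_one,
    inv_one, one_smul, Module.End.one_apply]
  rw [add_assoc, add_comm (D _) (q _), add_sub_cancel_right]
  refine Ideal.sum_mem _ fun k _ => Submodule.smul_of_tower_mem _ _ ?_
  rw [hDk, hq]
  exact Ideal.mem_map_of_mem _ (Ideal.pow_le_pow_right (by omega) (delDer_iterate A i _ _))

end

theorem isDiffSmooth_of_charZero (A B : Type u) [CommRing A] [CommRing B] [Algebra A B] [Algebra ℚ B]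
    [Module.Projective B (KaehlerDifferential A B)] : _root_.PP16.IsDiffSmooth A B := by
  obtain ⟨i, hi⟩ := (Module.projective_def (R := B) (P := KaehlerDifferential A B)).1 inferInstance
  exact isDiffSmooth_of_taylor A B (KaehlerDifferential A B) i (Finsupp.linearCombination B id) hi
    fun m => exists_taylor_charZero A i (m + 1)

end Groth.Agent.PP16
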