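import Groth.Agent.PP16.Gr
import Groth.Agent.QReg.Local
import Groth.Agent.SymGr.Quasi

/-!
# Differential smoothness and quasi-regularity of the diagonal
-/

set_option autoImplicit false
set_option linter.style.haveILetI false

universe u

open scoped TensorProduct

noncomputable section

namespace Groth.Agent.PP16.QuasiDiag

variable (A B : Type u) [CommRing A] [CommRing B] [Algebra A B]

local notation "T" => B ⊗[A] B
local notation "I" => KaehlerDifferential.ideal A B

/-- Multiplication. -/
abbrev μ : T →+* B := (Algebra.TensorProduct.lmul' A (S := B)).toRingHom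

theorem μ_algebraMap (b : B) : μ A B (algebraMap B T b) = b := by
  simp [μ, Algebra.TensorProduct.algebraMap_apply]

theorem sub_mem (r : T) : r - algebraMap B T (μ A B r) ∈ I := by
  change μ A B (r - algebraMap B T (μ A B r)) = 0
  rw [map_sub, μ_algebraMap, sub_self]

variable {A B}

/-- The conormal module read as differentials. -/
def toΩ (v : (I).Cotangent) : KaehlerDifferential A B := v

/-- Differentials read as the conormal module. -/
def ofΩ (w : KaehlerDifferential A B) : (I).Cotangent := w

theorem ofΩ_add (v w : KaehlerDifferential A B) : ofΩ (v + w) = ofΩ v + ofΩ w := rfl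

theorem toΩ_add (v w : (I).Cotangent) : toΩ (v + w) = toΩ v + toΩ w := rfl

theorem ofΩ_smul (b : B) (w : KaehlerDifferential A B) : ofΩ (b • w) = algebraMap B T b • ofΩ w := by
  rw [show b • w = algebraMap B T b • w from (algebraMap_smul T b w).symm]
  rfl

theorem toΩ_smul (r : T) (v : (I).Cotangent) : toΩ (r • v) = μ A B r • toΩ v := by
  obtain ⟨x, rfl⟩ := (I).toCotangent_surjective v
  rw [show μ A B r • toΩ ((I).toCotangent x) = algebraMap B T (μ A B r) • toΩ ((I).toCotangent x) from
    (algebraMap_smul T _ _).symm]
  change r • (I).toCotangent x = algebraMap B T (μ A B r) • (I).toCotangent x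
  rw [← sub_eq_zero, ← sub_smul, ← map_smul, Ideal.toCotangent_eq_zero, pow_two]
  exact Ideal.mul_mem_mul (sub_mem A B r) x.2

variable (A B)

/-- Differentials are projective exactly when the conormal module of the diagonal is. -/
theorem projective_iff :
    Module.Projective B (KaehlerDifferential A B) ↔ Module.Projective (T ⧸ I) (I).Cotangent := by
  let e : (T ⧸ I) ≃+* B := RingHom.quotientKerEquivOfSurjective
    (f := μ A B) fun b => ⟨algebraMap B T b, μ_algebraMap A B b⟩
  letI := RingHomInvPair.of_ringEquiv e
  letI := RingHomInvPair.of_ringEquiv e.symm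
  let f : (I).Cotangent ≃ₛₗ[(e : (T ⧸ I) →+* B)] KaehlerDifferential A B :=
    { toFun := toΩ
      invFun := ofΩ
      left_inv := fun _ => rfl
      right_inv := fun _ => rfl
      map_add' := fun _ _ => rfl
      map_smul' := fun r x => by
        obtain ⟨r, rfl⟩ := Ideal.Quotient.mk_surjective r
        refine Eq.trans ?_ (toΩ_smul r x)
        exact congrArg toΩ (algebraMap_smul (T ⧸ I) r x) }
  exact ⟨fun h => Module.Projective.of_equiv f.symm, fun h => Module.Projective.of_equiv f⟩

variable (ι : Type u) [Fintype ι] (s : KaehlerDifferential A B →ₗ[B] KaehlerDifferential.ideal A B)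

/-- From the symmetric power over `T` to the one over `B`. -/
theorem exists_down : ∃ f : SymmetricPower T ι (I).Cotangent →+ SymmetricPower B ι (KaehlerDifferential A B),
    (∀ v, f (SymmetricPower.tprod T v) = SymmetricPower.tprod B fun i => toΩ (v i)) ∧
      ∀ r x, f (r • x) = μ A B r • f x := by
  classical
  let N := SymmetricPower B ι (KaehlerDifferential A B)
  letI : Module T N := Module.compHom N (μ A B)
  let m : MultilinearMap T (fun _ : ι => (I).Cotangent) N :=
    { toFun := fun v => SymmetricPower.tprod B fun i => toΩ (v i)
      map_update_add' := fun {inst} v i a b => by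
        have e : ∀ c, (fun j => toΩ (Function.update v i c j)) = Function.update (fun j => toΩ (v j)) i (toΩ c) :=
          fun c => funext fun j => Function.apply_update (fun _ => toΩ) v i c j
        simp only [e, toΩ_add, MultilinearMap.map_update_add]
      map_update_smul' := fun {inst} v i c a => by
        have e : ∀ c, (fun j => toΩ (Function.update v i c j)) = Function.update (fun j => toΩ (v j)) i (toΩ c) :=
          fun c => funext fun j => Function.apply_update (fun _ => toΩ) v i c j
        simp only [e, toΩ_smul, MultilinearMap.map_update_smul]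
        rfl }
  have hm : ∀ (e : Equiv.Perm ι) v, m (fun i => v (e i)) = m v := fun e v =>
    SymmetricPower.tprod_equiv e fun i => toΩ (v i)
  let f := symLift m hm
  exact ⟨f.toAddMonoidHom, fun v => symLift_tprod m hm v, fun r x => map_smul f r x⟩

/-- From the symmetric power over `B` to the one over `T`. -/
theorem exists_up : ∃ g : SymmetricPower B ι (KaehlerDifferential A B) →+ SymmetricPower T ι (I).Cotangent,
    (∀ v, g (SymmetricPower.tprod B v) = SymmetricPower.tprod T fun i => ofΩ (v i)) ∧
      ∀ b x, g (b • x) = algebraMap B T b • g x := by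
  classical
  let N := SymmetricPower T ι (I).Cotangent
  letI : Module B N := Module.compHom N (algebraMap B T)
  let m : MultilinearMap B (fun _ : ι => KaehlerDifferential A B) N :=
    { toFun := fun v => SymmetricPower.tprod T fun i => ofΩ (v i)
      map_update_add' := fun {inst} v i a b => by
        have e : ∀ c, (fun j => ofΩ (Function.update v i c j)) = Function.update (fun j => ofΩ (v j)) i (ofΩ c) :=
          fun c => funext fun j => Function.apply_update (fun _ => ofΩ) v i c j
        simp only [e, ofΩ_add, MultilinearMap.map_update_add]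
      map_update_smul' := fun {inst} v i c a => by
        have e : ∀ c, (fun j => ofΩ (Function.update v i c j)) = Function.update (fun j => ofΩ (v j)) i (ofΩ c) :=
          fun c => funext fun j => Function.apply_update (fun _ => ofΩ) v i c j
        simp only [e, ofΩ_smul, MultilinearMap.map_update_smul]
        rfl }
  have hm : ∀ (e : Equiv.Perm ι) v, m (fun i => v (e i)) = m v := fun e v =>
    SymmetricPower.tprod_equiv e fun i => ofΩ (v i)
  let g := symLift m hm
  exact ⟨g.toAddMonoidHom, fun v => symLift_tprod m hm v, fun r x => map_smul g r x⟩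

variable {A B ι}

/-- The two maps to the graded pieces have the same kernel. -/
theorem phi_injective_iff [Nonempty ι] (hs : ∀ w, KaehlerDifferential.fromIdeal A B (s w) = w) :
    Function.Injective (phi s ι) ↔ Function.Injective (SymGr.Quasi.phi I ι) := by
  obtain ⟨f, hf, hfs⟩ := exists_down A B ι
  obtain ⟨g, hg, hgs⟩ := exists_up A B ι
  have hfg : ∀ x, f (g x) = x := fun x => by
    have : x ∈ Submodule.span B (Set.range (SymmetricPower.tprod B (M := KaehlerDifferential A B) (ι := ι))) :=
      by rw [SymmetricPower.span_tprod_eq_top]; trivial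
    induction this using Submodule.span_induction with
    | mem y hy => obtain ⟨v, rfl⟩ := hy; rw [hg, hf]; rfl
    | zero => rw [map_zero, map_zero]
    | add a b _ _ ha hb => rw [map_add, map_add, ha, hb]
    | smul c y _ hy => rw [hgs, hfs, μ_algebraMap, hy]
  have hgf : ∀ x, g (f x) = x := fun x => by
    have : x ∈ Submodule.span T (Set.range (SymmetricPower.tprod T (M := (I).Cotangent) (ι := ι))) :=
      by rw [SymmetricPower.span_tprod_eq_top]; trivial
    induction this using Submodule.span_induction with
    | mem y hy => obtain ⟨v, rfl⟩ := hy; rw [hf, hg]; rfl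
    | zero => rw [map_zero, map_zero]
    | add a b _ _ ha hb => rw [map_add, map_add, ha, hb]
    | smul r y _ hy =>
      rw [hfs, hgs, hy, eq_comm, ← sub_eq_zero, ← sub_smul]
      exact SymGr.Quasi.smul_eq_zero (sub_mem A B r) y
  let Θ : _root_.PP16.grI A B (Fintype.card ι) →+ _root_.PP16.grJ T I (Fintype.card ι) :=
    QuotientAddGroup.lift _
      (AddMonoidHom.mk' (fun x => Submodule.Quotient.mk ⟨x.1, x.2⟩) fun x y => rfl)
      fun x hx => (Submodule.Quotient.mk_eq_zero _).mpr hx
  have hΘ : Function.Injective Θ := by
    rw [injective_iff_map_eq_zero]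
    intro q hq
    obtain ⟨x, rfl⟩ := Submodule.Quotient.mk_surjective _ q
    exact (Submodule.Quotient.mk_eq_zero _).mpr ((Submodule.Quotient.mk_eq_zero _).mp hq :)
  have key : ∀ x, Θ (phi s ι x) = SymGr.Quasi.phi I ι (g x) := fun x => by
    have : x ∈ Submodule.span B (Set.range (SymmetricPower.tprod B (M := KaehlerDifferential A B) (ι := ι))) :=
      by rw [SymmetricPower.span_tprod_eq_top]; trivial
    induction this using Submodule.span_induction with
    | mem y hy =>
      obtain ⟨v, rfl⟩ := hy
      choose ω hω using fun i => KaehlerDifferential.fromIdeal_surjective A B (v i)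
      rw [hg, phi_tprod hs v (fun i => (ω i : T)) (fun i => (ω i).2) hω
        (_root_.PP16.prod_mem_pow _ Finset.univ (fun i => (ω i : T)) fun i _ => (ω i).2),
        show (fun i => ofΩ (v i)) = fun i => (I).toCotangent (ω i) from funext fun i => (hω i).symm,
        SymGr.Quasi.phi_tprod]
      rfl
    | zero => rw [map_zero, map_zero, map_zero, map_zero]
    | add a b _ _ ha hb => rw [map_add, map_add, map_add, map_add, ha, hb]
    | smul c y _ hy =>
      rw [map_smul, hgs, map_smul (SymGr.Quasi.phi I ι), ← hy]
      obtain ⟨z, hz⟩ := Submodule.Quotient.mk_surjective _ (phi s ι y)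
      rw [← hz]
      exact congrArg Submodule.Quotient.mk (Subtype.ext (algebraMap_smul T c (z : T)).symm)
  constructor
  · intro h
    rw [injective_iff_map_eq_zero] at h ⊢
    intro x hx
    rw [← hgf x] at hx ⊢
    rw [h (f x) (hΘ (by rw [key, hx, map_zero])), map_zero]
  · intro h
    rw [injective_iff_map_eq_zero] at h ⊢
    intro x hx
    rw [← hfg x, h (g x) (by rw [← key, hx, map_zero]), map_zero]

/-- In degree zero there is no condition. -/
theorem phi_injective_of_isEmpty [IsEmpty ι] (hs : ∀ w, KaehlerDifferential.fromIdeal A B (s w) = w) :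
    Function.Injective (phi s ι) := by
  rw [injective_iff_map_eq_zero]
  intro x hx
  let t₀ := SymmetricPower.tprod B (M := KaehlerDifferential A B) (ι := ι) isEmptyElim
  obtain ⟨b, rfl⟩ : ∃ b : B, b • t₀ = x := by
    refine Submodule.mem_span_singleton.mp ?_
    rw [show ({t₀} : Set _) = Set.range (SymmetricPower.tprod B (M := KaehlerDifferential A B) (ι := ι)) from
      Set.ext fun y => ⟨fun h => ⟨isEmptyElim, h.symm⟩, fun ⟨v, hv⟩ => by
        rw [← hv, show v = isEmptyElim from funext fun i => isEmptyElim i]; rfl⟩,
      SymmetricPower.span_tprod_eq_top B ι _]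
    trivial
  rw [map_smul, phi_tprod hs isEmptyElim (fun i => isEmptyElim i) (fun i => isEmptyElim i)
    (fun i => isEmptyElim i) (by simp), ← Submodule.Quotient.mk_smul, Submodule.Quotient.mk_eq_zero,
    Submodule.mem_comap] at hx
  have hb : μ A B (algebraMap B T b) = 0 := by
    have h1 : b • ∏ i : ι, (isEmptyElim i : T) ∈ I ^ (Fintype.card ι + 1) := hx
    rw [Finset.univ_eq_empty, Finset.prod_empty, Fintype.card_eq_zero, zero_add, pow_one,
      ← Algebra.algebraMap_eq_smul_one] at h1
    exact h1
  rw [μ_algebraMap] at hb
  rw [hb, zero_smul]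

variable (A B)

theorem isDiffSmooth_iff [Algebra.EssFiniteType A B] :
    _root_.PP16.IsDiffSmooth A B ↔ _root_.PP16.IsLocallyQuasiRegular T I := by
  classical
  constructor
  · rintro ⟨hproj, h⟩
    obtain ⟨s, hs⟩ := exists_section A (B := B)
    refine QReg.isLocallyQuasiRegular_of (KaehlerDifferential.ideal_fg A B) ((projective_iff A B).mp hproj) ?_
    rw [SymGr.Quasi.symGrBijective_iff]
    intro ι _ _
    refine ⟨(phi_injective_iff s hs).mp ?_, SymGr.Quasi.phi_surjective I ι⟩
    obtain ⟨φ, hφ, hb⟩ := h ι
    have : φ = phi s ι := sym_ext (fun b => KaehlerDifferential.D A B b)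
      (KaehlerDifferential.span_range_derivation A B) fun g => (hφ g).trans (phi_tprod_D hs g).symm
    exact this ▸ hb.1
  · intro h
    have hproj := (projective_iff A B).mpr (QReg.projective_of_isLocallyQuasiRegular h)
    obtain ⟨s, hs⟩ := exists_section A (B := B)
    refine ⟨hproj, fun ι _ => ⟨phi s ι, phi_tprod_D hs, ?_, phi_surjective hs⟩⟩
    cases isEmpty_or_nonempty ι
    · exact phi_injective_of_isEmpty s hs
    · exact (phi_injective_iff s hs).mpr ((SymGr.Quasi.symGrBijective_iff I).mp
        (QReg.symGrBijective_of_isLocallyQuasiRegular h) ι).1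

end Groth.Agent.PP16.QuasiDiag

end
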