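import Groth.Agent.PP16.BaseChange
import Groth.Agent.PP16.QuasiDiag
import Groth.Agent.ProjDesc.Basic
import Mathlib.RingTheory.Finiteness.Descent

/-!
# Differential smoothness descends along faithfully flat base change
-/

set_option autoImplicit false

universe u

open scoped TensorProduct

noncomputable section

namespace Groth.Agent.PP16.Descent

/-- Symmetric powers of projective modules inject into those of an injective scalar extension. -/
theorem symPower_map_injective {B B' : Type u} [CommRing B] [CommRing B'] [Algebra B B']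
    (hinj : Function.Injective (algebraMap B B')) {M M' : Type u} [AddCommGroup M] [Module B M]
    [AddCommGroup M'] [Module B M'] [Module B' M'] [IsScalarTower B B' M'] [Module.Projective B M]
    {m : M →ₗ[B] M'} (hm : IsBaseChange B' m) (ι : Type u) [Fintype ι] [Nonempty ι]
    [Module B (SymmetricPower B' ι M')] [IsScalarTower B B' (SymmetricPower B' ι M')]
    {u : SymmetricPower B ι M →ₗ[B] SymmetricPower B' ι M'}
    (hu : ∀ v, u (SymmetricPower.tprod B v) = SymmetricPower.tprod B' fun i => m (v i))
    {s : SymmetricPower B ι M} (hs : u s = 0) : s = 0 := by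
  classical
  refine SymGr.Basic.eq_zero_of_symIota_mem (S := B) B M (fun b => ⟨b, rfl⟩) ι ?_
  suffices hz : SymGr.Basic.symIota B B M ι s = 0 by rw [hz]; exact zero_mem _
  obtain ⟨sec, hsec⟩ := Module.projective_def'.mp ‹Module.Projective B M›
  let L : (M →₀ B) →ₗ[B] MvPolynomial M B :=
    Finsupp.linearCombination B (MvPolynomial.X : M → MvPolynomial M B)
  let φ := SymmetricAlgebra.lift (L ∘ₗ sec)
  have hleft : (MvPolynomial.aeval (SymmetricAlgebra.ι B M)).comp φ = AlgHom.id B _ := by
    apply SymmetricAlgebra.algHom_ext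
    refine LinearMap.ext fun v => ?_
    have hL : (MvPolynomial.aeval (SymmetricAlgebra.ι B M)).toLinearMap ∘ₗ L =
        SymmetricAlgebra.ι B M ∘ₗ Finsupp.linearCombination B id := by
      ext w; simp [L]
    change MvPolynomial.aeval (SymmetricAlgebra.ι B M)
        (SymmetricAlgebra.lift (L ∘ₗ sec) (SymmetricAlgebra.ι B M v)) = SymmetricAlgebra.ι B M v
    rw [SymmetricAlgebra.lift_ι_apply]
    exact (LinearMap.congr_fun hL (sec v)).trans (congrArg (SymmetricAlgebra.ι B M) (LinearMap.congr_fun hsec v))
  suffices hφ : φ (SymGr.Basic.symIota B B M ι s) = 0 by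
    have := AlgHom.congr_fun hleft (SymGr.Basic.symIota B B M ι s)
    rw [AlgHom.comp_apply, hφ, map_zero] at this
    exact this.symm
  apply MvPolynomial.map_injective (algebraMap B B') hinj
  rw [map_zero]
  let mp := (MvPolynomial.mapAlgHom (σ := M) (IsScalarTower.toAlgHom B B B')).toLinearMap
  let g : M →ₗ[B] MvPolynomial M B' := mp ∘ₗ (L ∘ₗ sec)
  let φ' := SymmetricAlgebra.lift (hm.lift g)
  have key : (mp ∘ₗ φ.toLinearMap) ∘ₗ SymGr.Basic.symIota B B M ι =
      ((φ'.toLinearMap ∘ₗ SymGr.Basic.symIota B' B' M' ι).restrictScalars B) ∘ₗ u := by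
    refine SymGr.Basic.linearMap_ext fun v => ?_
    simp only [LinearMap.comp_apply, LinearMap.restrictScalars_apply, AlgHom.toLinearMap_apply, hu,
      SymGr.Basic.symIota_tprod, map_prod, φ, φ', SymmetricAlgebra.lift_ι_apply, mp]
    refine Finset.prod_congr rfl fun i _ => ?_
    exact (hm.lift_eq g (v i)).symm
  have := LinearMap.congr_fun key s
  simp only [LinearMap.comp_apply, LinearMap.restrictScalars_apply, hs, map_zero, AlgHom.toLinearMap_apply] at this
  exact this

theorem faithfullyFlat_of_isPushout (A B A' B' : Type u) [CommRing A] [CommRing B] [Algebra A B]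
    [CommRing A'] [CommRing B'] [Algebra A' B'] [Algebra A A'] [Algebra B B'] [Algebra A B']
    [IsScalarTower A A' B'] [IsScalarTower A B B'] [Algebra.IsPushout A B A' B'] [Module.FaithfullyFlat A A'] :
    Module.FaithfullyFlat B B' :=
  Module.FaithfullyFlat.of_linearEquiv _ _ (Algebra.IsPushout.equiv A B A' B').toLinearEquiv.symm

theorem isDiffSmooth_of_faithfullyFlat (A B A' B' : Type u) [CommRing A] [CommRing B] [Algebra A B]
    [CommRing A'] [CommRing B'] [Algebra A' B'] [Algebra A A'] [Algebra B B'] [Algebra A B']
    [IsScalarTower A A' B'] [IsScalarTower A B B'] [Algebra.IsPushout A B A' B'] [Module.FaithfullyFlat A A']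
    (h : _root_.PP16.IsDiffSmooth A' B') (hfin : Module.Finite B' (KaehlerDifferential A' B')) :
    _root_.PP16.IsDiffSmooth A B ∧ Module.Finite B (KaehlerDifferential A B) := by
  haveI := faithfullyFlat_of_isPushout A B A' B'
  haveI : Algebra.IsPushout A A' B B' := Algebra.IsPushout.symm inferInstance
  haveI := h.1
  let e := KaehlerDifferential.tensorKaehlerEquiv A A' B B'
  haveI : Module.Projective B' (B' ⊗[B] KaehlerDifferential A B) := Module.Projective.of_equiv e.symm
  haveI : Module.Finite B' (B' ⊗[B] KaehlerDifferential A B) := Module.Finite.equiv e.symm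
  haveI := ProjDesc.projective_of_baseChange B B' (KaehlerDifferential A B)
  refine ⟨⟨inferInstance, fun ι _ => ?_⟩, Module.Finite.of_finite_tensorProduct_of_faithfullyFlat B'⟩
  classical
  obtain ⟨s, hs⟩ := exists_section A (B := B)
  refine ⟨phi s ι, phi_tprod_D hs, ?_, phi_surjective hs⟩
  cases isEmpty_or_nonempty ι
  · exact QuasiDiag.phi_injective_of_isEmpty s hs
  letI : Module B (SymmetricPower B' ι (KaehlerDifferential A' B')) := Module.compHom _ (algebraMap B B')
  haveI : IsScalarTower B B' (SymmetricPower B' ι (KaehlerDifferential A' B')) :=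
    IsScalarTower.of_algebraMap_smul fun _ _ => rfl
  let m : KaehlerDifferential A B →ₗ[B] KaehlerDifferential A' B' := KaehlerDifferential.map A A' B B'
  have hm : IsBaseChange B' m := IsBaseChange.of_equiv e fun x => by
    have h0 : e.toLinearMap.restrictScalars B ∘ₗ TensorProduct.mk B B' (KaehlerDifferential A B) 1 = m :=
      LinearMap.ext_on (KaehlerDifferential.span_range_derivation A B) (by rintro _ ⟨b, rfl⟩; simp [e, m])
    exact LinearMap.congr_fun h0 x
  let f : MultilinearMap B (fun _ : ι => KaehlerDifferential A B)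
      (SymmetricPower B' ι (KaehlerDifferential A' B')) :=
    MultilinearMap.compLinearMap ((SymmetricPower.tprod B').restrictScalars B) fun _ => m
  let u := symLift f fun p x => SymmetricPower.tprod_equiv p fun i => m (x i)
  have hu : ∀ v, u (SymmetricPower.tprod B v) = SymmetricPower.tprod B' fun i => m (v i) := fun v =>
    symLift_tprod f _ v
  obtain ⟨Λ, hΛ0, hΛ⟩ := exists_detect A' B' h ι
  let T := _root_.PP16.tensorMap A B A' B'
  have hT : ∀ k, ∀ x ∈ KaehlerDifferential.ideal A B ^ k, T x ∈ KaehlerDifferential.ideal A' B' ^ k := by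
    intro k x hx
    have h1 : (KaehlerDifferential.ideal A B).map T.toRingHom ≤ KaehlerDifferential.ideal A' B' := by
      rw [ideal_eq_span A, Ideal.map_span, Ideal.span_le]
      rintro _ ⟨_, ⟨b, rfl⟩, rfl⟩
      change T (delta A b) ∈ KaehlerDifferential.ideal A' B'
      rw [tensorMap_delta]
      exact delta_mem A' _
    exact Ideal.pow_right_mono h1 k (Ideal.map_pow T.toRingHom _ k ▸ Ideal.mem_map_of_mem _ hx)
  let TB : B ⊗[A] B →ₗ[B] B' ⊗[A'] B' :=
    { toFun := T
      map_add' := map_add T
      map_smul' := fun b x => by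
        induction x using TensorProduct.induction_on with
        | zero => simp
        | tmul c d => simp [T, _root_.PP16.tensorMap_tmul, Algebra.smul_def]
        | add x y hx hy => simp only [smul_add, map_add, RingHom.id_apply] at hx hy ⊢; rw [hx, hy] }
  let Ψ : _root_.PP16.grI A B (Fintype.card ι) →ₗ[B] SymmetricPower B' ι (KaehlerDifferential A' B') :=
    Submodule.liftQ _ ((Λ.restrictScalars B ∘ₗ TB) ∘ₗ Submodule.subtype _) fun x hx => by
      exact hΛ0 _ (hT _ _ hx)
  have key : Ψ ∘ₗ phi s ι = u := by
    refine sym_ext (fun b => KaehlerDifferential.D A B b) (KaehlerDifferential.span_range_derivation A B) fun g => ?_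
    rw [LinearMap.comp_apply, phi_tprod_D hs g, hu]
    refine Eq.trans ?_ ((hΛ fun i => algebraMap B B' (g i)).trans ?_)
    · change Λ (T (∏ i, delta A (g i))) = _
      rw [map_prod]
      exact congrArg Λ (Finset.prod_congr rfl fun i _ => tensorMap_delta A B A' B' (g i))
    · exact congrArg _ (funext fun i => (KaehlerDifferential.map_D A A' B B' (g i)).symm)
  rw [injective_iff_map_eq_zero]
  intro x hx
  refine symPower_map_injective (FaithfulSMul.algebraMap_injective B B') hm ι hu ?_
  rw [← key, LinearMap.comp_apply, hx, map_zero]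

end Groth.Agent.PP16.Descent

end
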