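import Groth.Agent.PP16.Gr

set_option autoImplicit false
set_option linter.unusedSectionVars false

open scoped TensorProduct BigOperators
open MvPolynomial

namespace Groth.Agent.PP16

universe u

theorem projective_symmetricPower (R : Type u) [CommRing R] (ι : Type u) [Fintype ι] (M : Type u)
    [AddCommGroup M] [Module R M] [Module.Projective R M] :
    Module.Projective R (SymmetricPower R ι M) := by
  obtain ⟨i, hi⟩ := (Module.projective_def (R := R) (P := M)).1 inferInstance
  let f : MultilinearMap R (fun _ : ι => M) (MvPolynomial M R) :=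
    (MultilinearMap.mkPiAlgebra R ι (MvPolynomial M R)).compLinearMap fun _ => (lin R M).comp i
  let e : SymmetricPower R ι M →ₗ[R] MvPolynomial M R := symLift f fun p x => by
    simp only [f, MultilinearMap.compLinearMap_apply, MultilinearMap.mkPiAlgebra_apply]
    exact Equiv.prod_comp p fun j => (lin R M).comp i (x j)
  refine Module.Projective.of_split e (theta (Finsupp.linearCombination R id)) ?_
  refine sym_ext (w := id) (by simp) fun g => ?_
  rw [LinearMap.comp_apply, symLift_tprod]
  simp only [f, MultilinearMap.compLinearMap_apply, MultilinearMap.mkPiAlgebra_apply,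
    LinearMap.comp_apply, LinearMap.id_apply, theta_prod_lin, id_eq, hi _]

section

variable {R : Type u} [CommRing R] {T : Type u} [AddCommGroup T] [Module R T]

/-- The graded piece of a filtration receives a projection, when the quotient is projective. -/
theorem exists_proj (N N' : Submodule R T) (hle : N' ≤ N) [Module.Projective R (T ⧸ N)] :
    ∃ π : T →ₗ[R] ↥N ⧸ N'.comap N.subtype,
      (∀ x : N, π x = Submodule.Quotient.mk x) ∧ (∀ x ∈ N', π x = 0) := by
  obtain ⟨s, hs⟩ := Module.projective_lifting_property N.mkQ LinearMap.id N.mkQ_surjective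
  let d : T →ₗ[R] N := (LinearMap.id - s ∘ₗ N.mkQ).codRestrict N fun x => by
    refine (Submodule.Quotient.mk_eq_zero N).1 ?_
    have := LinearMap.congr_fun hs (N.mkQ x)
    simp only [LinearMap.comp_apply, LinearMap.id_apply, Submodule.mkQ_apply] at this
    simp [this]
  refine ⟨(N'.comap N.subtype).mkQ ∘ₗ d, fun x => ?_, fun x hx => ?_⟩
  · refine congrArg _ (Subtype.ext ?_)
    simp [d, (Submodule.Quotient.mk_eq_zero N).2 x.2]
  · refine (Submodule.Quotient.mk_eq_zero _).2 ?_
    simp [d, (Submodule.Quotient.mk_eq_zero N).2 (hle hx), hx]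

theorem projective_quotient_of_step (N N' : Submodule R T) (hle : N' ≤ N)
    [Module.Projective R (T ⧸ N)] [Module.Projective R (↥N ⧸ N'.comap N.subtype)] :
    Module.Projective R (T ⧸ N') := by
  obtain ⟨π, hπ, hπ0⟩ := exists_proj N N' hle
  obtain ⟨s, hs⟩ := Module.projective_lifting_property N.mkQ LinearMap.id N.mkQ_surjective
  let p : T ⧸ N' →ₗ[R] ↥N ⧸ N'.comap N.subtype := N'.liftQ π fun x hx => hπ0 x hx
  let g : T ⧸ N' →ₗ[R] T ⧸ N := N'.mapQ N LinearMap.id hle
  let j : ↥N ⧸ N'.comap N.subtype →ₗ[R] T ⧸ N' := (N'.comap N.subtype).mapQ N' N.subtype le_rfl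
  refine Module.Projective.of_split (p.prod g)
    (j.coprod ((N'.mkQ ∘ₗ (LinearMap.id : T →ₗ[R] T)) ∘ₗ s - j ∘ₗ π ∘ₗ s)) ?_
  refine Submodule.linearMap_qext _ (LinearMap.ext fun x => ?_)
  have hg : N.mkQ (s (N.mkQ x)) = N.mkQ x := LinearMap.congr_fun hs (N.mkQ x)
  have hd : x - s (N.mkQ x) ∈ N := (Submodule.Quotient.eq N).1 (by simpa using hg.symm)
  have := hπ ⟨_, hd⟩
  simp only [map_sub] at this
  change j (π x) + (Submodule.Quotient.mk (s (N.mkQ x)) - j (π (s (N.mkQ x)))) = Submodule.Quotient.mk x
  have h2 : j (π x) - j (π (s (N.mkQ x))) = Submodule.Quotient.mk (x - s (N.mkQ x)) := by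
    rw [← map_sub, this]; rfl
  rw [Submodule.Quotient.mk_sub] at h2
  linear_combination (norm := abel) h2

end

variable (A B : Type u) [CommRing A] [CommRing B] [Algebra A B]

theorem projective_grI (h : _root_.PP16.IsDiffSmooth A B) (k : ℕ) :
    Module.Projective B (_root_.PP16.grI A B k) := by
  have := h.1
  obtain ⟨φ, -, hφ⟩ := h.2 (ULift.{u} (Fin k))
  have hk : Fintype.card (ULift.{u} (Fin k)) = k := by simp
  have := projective_symmetricPower B (ULift.{u} (Fin k)) (KaehlerDifferential A B)
  have := Module.Projective.of_equiv (LinearEquiv.ofBijective φ hφ)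
  exact hk ▸ this

theorem projective_quotient_pow (h : _root_.PP16.IsDiffSmooth A B) : ∀ k : ℕ,
    Module.Projective B ((B ⊗[A] B) ⧸ (KaehlerDifferential.ideal A B ^ k).restrictScalars B)
  | 0 => by
    have : Subsingleton ((B ⊗[A] B) ⧸ (KaehlerDifferential.ideal A B ^ 0).restrictScalars B) := by
      rw [Submodule.Quotient.subsingleton_iff, pow_zero, Ideal.one_eq_top]; rfl
    infer_instance
  | k + 1 => by
    have := projective_quotient_pow h k
    have : Module.Projective B _ := projective_grI A B h k
    exact projective_quotient_of_step ((KaehlerDifferential.ideal A B ^ k).restrictScalars B)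
      ((KaehlerDifferential.ideal A B ^ (k + 1)).restrictScalars B)
      (fun x hx => Ideal.pow_le_pow_right (Nat.le_succ k) hx)

/-- Converse of `isDiffSmooth_of_detect`. -/
theorem exists_detect (h : _root_.PP16.IsDiffSmooth A B) (ι : Type u) [Fintype ι] :
    ∃ Λ : B ⊗[A] B →ₗ[B] SymmetricPower B ι (KaehlerDifferential A B),
      (∀ x ∈ KaehlerDifferential.ideal A B ^ (Fintype.card ι + 1), Λ x = 0) ∧
      ∀ g : ι → B, Λ (∏ i, delta A (g i)) =
        SymmetricPower.tprod B fun i => KaehlerDifferential.D A B (g i) := by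
  obtain ⟨φ, hφv, hφ⟩ := h.2 ι
  have := projective_quotient_pow A B h (Fintype.card ι)
  obtain ⟨π, hπ, hπ0⟩ := exists_proj
    ((KaehlerDifferential.ideal A B ^ Fintype.card ι).restrictScalars B)
    ((KaehlerDifferential.ideal A B ^ (Fintype.card ι + 1)).restrictScalars B)
    (fun x hx => Ideal.pow_le_pow_right (Nat.le_succ _) hx)
  refine ⟨(LinearEquiv.ofBijective φ hφ).symm.toLinearMap ∘ₗ π, fun x hx => ?_, fun g => ?_⟩
  · simp [hπ0 x hx]
  · rw [LinearMap.comp_apply, LinearEquiv.coe_coe, LinearEquiv.symm_apply_eq,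
      LinearEquiv.ofBijective_apply, hφv]
    exact hπ ⟨∏ i, delta A (g i), by
      simpa using _root_.PP16.prod_mem_pow _ Finset.univ (fun i => delta A (g i))
        fun i _ => delta_mem A (g i)⟩

end Groth.Agent.PP16
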