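import Mathlib.LinearAlgebra.TensorPower.Symmetric
import Mathlib.LinearAlgebra.Multilinear.Basis
import Mathlib.RingTheory.MvPolynomial.Basic
import Mathlib.RingTheory.MvPolynomial.Ideal
import Mathlib.Logic.Equiv.Set

set_option autoImplicit false
set_option linter.unusedSectionVars false

open scoped BigOperators
open MvPolynomial

namespace Groth.Agent.PP16

universe u

variable {R : Type u} [CommRing R] {ι : Type u}
  {M : Type*} {N : Type*} [AddCommGroup M] [Module R M] [AddCommGroup N] [Module R N]

/-- Lift of a symmetric multilinear map to the symmetric power. -/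
noncomputable def symLift (f : MultilinearMap R (fun _ : ι => M) N)
    (hf : ∀ (e : Equiv.Perm ι) (x : ι → M), f (fun i => x (e i)) = f x) :
    SymmetricPower R ι M →ₗ[R] N where
  toFun := AddCon.lift _ (PiTensorProduct.lift f).toAddMonoidHom <| AddCon.addConGen_le.mpr <| by
    rintro _ _ ⟨e, x⟩
    change PiTensorProduct.lift f (PiTensorProduct.tprod R x) =
      PiTensorProduct.lift f (PiTensorProduct.tprod R fun i => x (e i))
    rw [PiTensorProduct.lift.tprod, PiTensorProduct.lift.tprod, hf]
  map_add' := map_add _
  map_smul' r x := by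
    refine AddCon.induction_on x fun x => ?_
    exact map_smul (PiTensorProduct.lift f) r x

theorem symLift_tprod (f : MultilinearMap R (fun _ : ι => M) N)
    (hf : ∀ (e : Equiv.Perm ι) (x : ι → M), f (fun i => x (e i)) = f x) (x : ι → M) :
    symLift f hf (SymmetricPower.tprod R x) = f x :=
  PiTensorProduct.lift.tprod x

/-- Multilinear maps are determined on a spanning family. -/
theorem multilinear_ext_of_span [Finite ι] {J : Type*} (w : J → M)
    (hw : Submodule.span R (Set.range w) = ⊤) {F G : MultilinearMap R (fun _ : ι => M) N}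
    (h : ∀ g : ι → J, F (fun i => w (g i)) = G (fun i => w (g i))) : F = G := by
  have hs : Function.Surjective (Finsupp.linearCombination R w) := by
    rw [← LinearMap.range_eq_top, Finsupp.range_linearCombination, hw]
  ext x
  choose y hy using fun i => hs (x i)
  have := Module.Basis.ext_multilinear (fun _ => (Finsupp.basisSingleOne : Module.Basis J R _))
    (f := F.compLinearMap fun _ => Finsupp.linearCombination R w)
    (g := G.compLinearMap fun _ => Finsupp.linearCombination R w) fun g => by
      simpa [MultilinearMap.compLinearMap_apply] using h g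
  have h2 := congrArg (fun Φ : MultilinearMap R (fun _ : ι => J →₀ R) N => Φ y) this
  simpa [MultilinearMap.compLinearMap_apply, hy] using h2

theorem sym_ext [Finite ι] {J : Type*} (w : J → M) (hw : Submodule.span R (Set.range w) = ⊤)
    {F G : SymmetricPower R ι M →ₗ[R] N}
    (h : ∀ g : ι → J, F (SymmetricPower.tprod R fun i => w (g i)) =
      G (SymmetricPower.tprod R fun i => w (g i))) : F = G := by
  refine LinearMap.ext_on (SymmetricPower.span_tprod_eq_top R ι M) ?_
  rintro _ ⟨x, rfl⟩
  exact congrArg (fun Φ : MultilinearMap R (fun _ : ι => M) N => Φ x)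
    (multilinear_ext_of_span w hw (F := F.compMultilinearMap (SymmetricPower.tprod R))
      (G := G.compMultilinearMap (SymmetricPower.tprod R)) h)

variable [Fintype ι] {σ : Type*}

/-- The exponent of a monomial indexed by `g`. -/
noncomputable def expo (g : ι → σ) : σ →₀ ℕ := ∑ i, Finsupp.single (g i) 1

theorem degree_expo (g : ι → σ) : (expo g).degree = Fintype.card ι := by
  simp [expo]

theorem exists_fun_expo (d : σ →₀ ℕ) (h : d.degree = Fintype.card ι) :
    ∃ g : ι → σ, expo g = d := by
  classical
  have hc : Fintype.card (Σ j : d.support, Fin (d j)) = Fintype.card ι := by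
    rw [← h, Fintype.card_sigma]
    simp [Finsupp.degree_apply, Finset.sum_attach]
  let e := Fintype.equivOfCardEq hc
  refine ⟨fun i => ((e.symm i).1 : σ), ?_⟩
  rw [expo, ← Equiv.sum_comp e]
  simp only [Equiv.symm_apply_apply]
  rw [Fintype.sum_sigma]
  simp only [Finset.sum_const, Finset.card_univ, Fintype.card_fin, Finsupp.smul_single,
    smul_eq_mul, mul_one]
  rw [Finset.sum_coe_sort d.support fun j => Finsupp.single j (d j)]
  exact Finsupp.sum_single d

theorem exists_perm_of_expo_eq {g g' : ι → σ} (h : expo g = expo g') :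
    ∃ e : Equiv.Perm ι, ∀ i, g' (e i) = g i := by
  classical
  have hc : ∀ j : σ, Fintype.card {i // g i = j} = Fintype.card {i // g' i = j} := by
    intro j
    have h1 := DFunLike.congr_fun h j
    simp only [expo, Finsupp.coe_finset_sum, Finset.sum_apply, Finsupp.single_apply,
      Finset.sum_boole, Nat.cast_id] at h1
    simpa [Fintype.card_subtype] using h1
  exact ⟨Equiv.ofPreimageEquiv fun j => Fintype.equivOfCardEq (hc j),
    fun i => Equiv.ofPreimageEquiv_map _ i⟩

variable (R σ) in
/-- The linear form attached to a finitely supported function. -/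
noncomputable abbrev lin : (σ →₀ R) →ₗ[R] MvPolynomial σ R :=
  Finsupp.linearCombination R (X : σ → MvPolynomial σ R)

theorem lin_single_one (j : σ) : lin R σ (Finsupp.single j 1) = X j := by
  simp [lin]

theorem lin_mem (y : σ →₀ R) : lin R σ y ∈ idealOfVars σ R := by
  rw [lin, Finsupp.linearCombination_apply]
  refine Ideal.sum_mem _ fun j _ => ?_
  exact Submodule.smul_of_tower_mem _ _ (Ideal.subset_span ⟨j, rfl⟩)

theorem prod_X (g : ι → σ) : ∏ i, (X (g i) : MvPolynomial σ R) = monomial (expo g) 1 :=
  (monomial_sum_one Finset.univ fun i => Finsupp.single (g i) 1).symm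

/-- The degree `card ι` part of a polynomial, as an element of the symmetric power. -/
noncomputable def theta (r : (σ →₀ R) →ₗ[R] M) :
    MvPolynomial σ R →ₗ[R] SymmetricPower R ι M := by
  classical
  exact (MvPolynomial.basisMonomials σ R).constr R fun d =>
    if h : d.degree = Fintype.card ι then
      SymmetricPower.tprod R fun i => r (Finsupp.single ((exists_fun_expo d h).choose i) 1)
    else 0

theorem theta_monomial_of_ne (r : (σ →₀ R) →ₗ[R] M) (d : σ →₀ ℕ) (c : R)
    (hd : d.degree ≠ Fintype.card ι) : theta (ι := ι) r (monomial d c) = 0 := by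
  classical
  have h : monomial d c = c • (MvPolynomial.basisMonomials σ R) d := by
    simp [MvPolynomial.coe_basisMonomials, MvPolynomial.smul_monomial]
  rw [h, map_smul, theta, Module.Basis.constr_basis, dif_neg hd, smul_zero]

theorem theta_prod_X (r : (σ →₀ R) →ₗ[R] M) (g : ι → σ) :
    theta r (∏ i, (X (g i) : MvPolynomial σ R)) =
      SymmetricPower.tprod R (fun i => r (Finsupp.single (g i) 1)) := by
  classical
  rw [prod_X]
  have h : monomial (expo g) (1 : R) = (MvPolynomial.basisMonomials σ R) (expo g) := by
    simp [MvPolynomial.coe_basisMonomials]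
  rw [h, theta, Module.Basis.constr_basis, dif_pos (degree_expo g)]
  obtain ⟨e, he⟩ := exists_perm_of_expo_eq (exists_fun_expo (expo g) (degree_expo g)).choose_spec
  rw [← SymmetricPower.tprod_equiv e fun i => r (Finsupp.single (g i) 1)]
  simp only [he]

theorem theta_prod_lin (r : (σ →₀ R) →ₗ[R] M) (y : ι → σ →₀ R) :
    theta r (∏ i, lin R σ (y i)) = SymmetricPower.tprod R (fun i => r (y i)) := by
  have := multilinear_ext_of_span (R := R) (ι := ι) (M := σ →₀ R) (fun j : σ => Finsupp.single j 1)
    (by rw [← Finsupp.coe_basisSingleOne]; exact Module.Basis.span_eq _)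
    (F := (theta (ι := ι) r).compMultilinearMap
      ((MultilinearMap.mkPiAlgebra R ι (MvPolynomial σ R)).compLinearMap fun _ => lin R σ))
    (G := (SymmetricPower.tprod R (ι := ι) (M := M)).compLinearMap fun _ => r)
    (fun g => by simpa [lin_single_one] using theta_prod_X r g)
  simpa using congrArg (fun Φ : MultilinearMap R (fun _ : ι => σ →₀ R) _ => Φ y) this

theorem theta_eq_zero_of_mem (r : (σ →₀ R) →ₗ[R] M) {k : ℕ} (hk : Fintype.card ι < k)
    (p : MvPolynomial σ R) (hp : p ∈ idealOfVars σ R ^ k) : theta (ι := ι) r p = 0 := by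
  rw [← p.support_sum_monomial_coeff, map_sum]
  refine Finset.sum_eq_zero fun d hd => theta_monomial_of_ne r d _ ?_
  have := (mem_pow_idealOfVars_iff k p).1 hp d hd
  omega

end Groth.Agent.PP16
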