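import Groth.Agent.PP16.Basic
import Groth.Agent.PP16.Sym
import Groth.Agent.Diff16.Coord
import Mathlib.RingTheory.Smooth.Kaehler
import Mathlib.RingTheory.Nilpotent.Exp
import Mathlib.Algebra.DualNumber

set_option autoImplicit false
set_option linter.unusedSectionVars false

open scoped TensorProduct BigOperators
open MvPolynomial

namespace Groth.Agent.PP16

universe u

theorem prod_sub_prod_mem {T : Type*} [CommRing T] (I : Ideal T) {ι : Type*} (s : Finset ι)
    (a b : ι → T) (ha : ∀ i ∈ s, a i ∈ I) (hb : ∀ i ∈ s, b i ∈ I)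
    (h : ∀ i ∈ s, a i - b i ∈ I ^ 2) :
    ∏ i ∈ s, a i - ∏ i ∈ s, b i ∈ I ^ (s.card + 1) := by
  classical
  induction s using Finset.induction_on with
  | empty => simp
  | insert j s hj ih =>
    have hA : ∏ i ∈ s, a i ∈ I ^ s.card := by
      have := Ideal.prod_mem_prod (s := s) (I := fun _ => I) (x := a) fun i hi => ha i (by simp [hi])
      rwa [Finset.prod_const] at this
    have h2 := ih (fun i hi => ha i (by simp [hi])) (fun i hi => hb i (by simp [hi]))
      (fun i hi => h i (by simp [hi]))
    rw [Finset.prod_insert hj, Finset.prod_insert hj, Finset.card_insert_of_notMem hj,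
      show a j * ∏ i ∈ s, a i - b j * ∏ i ∈ s, b i =
        (a j - b j) * ∏ i ∈ s, a i + b j * (∏ i ∈ s, a i - ∏ i ∈ s, b i) by ring]
    refine add_mem ?_ ?_
    · have := Ideal.mul_mem_mul (h j (by simp)) hA
      rwa [← pow_add, show 2 + s.card = s.card + 1 + 1 by omega] at this
    · have := Ideal.mul_mem_mul (hb j (by simp)) h2
      rwa [← pow_succ'] at this

variable (A : Type u) {B : Type u} [CommRing A] [CommRing B] [Algebra A B]

theorem sub_mem_sq {x y : B ⊗[A] B} (hx : x ∈ KaehlerDifferential.ideal A B)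
    (hy : y ∈ KaehlerDifferential.ideal A B)
    (h : KaehlerDifferential.fromIdeal A B ⟨x, hx⟩ = KaehlerDifferential.fromIdeal A B ⟨y, hy⟩) :
    x - y ∈ KaehlerDifferential.ideal A B ^ 2 :=
  (Ideal.toCotangent_eq _).1 h

theorem exists_section [Module.Projective B (KaehlerDifferential A B)] :
    ∃ s : KaehlerDifferential A B →ₗ[B] KaehlerDifferential.ideal A B,
      ∀ w, KaehlerDifferential.fromIdeal A B (s w) = w := by
  obtain ⟨s, hs⟩ := Module.projective_lifting_property
    ((KaehlerDifferential.fromIdeal A B).restrictScalars B) LinearMap.id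
    (KaehlerDifferential.fromIdeal_surjective A B)
  exact ⟨s, fun w => LinearMap.congr_fun hs w⟩

variable {A}
variable (s : KaehlerDifferential A B →ₗ[B] KaehlerDifferential.ideal A B)
  (ι : Type u) [Fintype ι]

/-- Products of lifts, as a multilinear map into the graded piece. -/
noncomputable def phiMul : MultilinearMap B (fun _ : ι => KaehlerDifferential A B)
    (_root_.PP16.grI A B (Fintype.card ι)) :=
  (Submodule.mkQ _).compMultilinearMap
    (((MultilinearMap.mkPiAlgebra B ι (B ⊗[A] B)).compLinearMap fun _ =>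
        ((KaehlerDifferential.ideal A B).subtype.restrictScalars B) ∘ₗ s).codRestrict
      ((KaehlerDifferential.ideal A B ^ Fintype.card ι).restrictScalars B) fun v => by
        rw [MultilinearMap.compLinearMap_apply, MultilinearMap.mkPiAlgebra_apply,
          Submodule.restrictScalars_mem]
        exact _root_.PP16.prod_mem_pow _ Finset.univ (fun i => (s (v i) : B ⊗[A] B))
          (fun i _ => (s (v i)).2))

theorem phiMul_symm (e : Equiv.Perm ι) (x : ι → KaehlerDifferential A B) :
    phiMul s ι (fun i => x (e i)) = phiMul s ι x := by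
  simp only [phiMul, LinearMap.compMultilinearMap_apply]
  refine congrArg _ (Subtype.ext ?_)
  simp only [MultilinearMap.codRestrict_apply_coe, MultilinearMap.compLinearMap_apply,
    MultilinearMap.mkPiAlgebra_apply]
  exact Equiv.prod_comp e fun i => ((((KaehlerDifferential.ideal A B).subtype.restrictScalars B) ∘ₗ s) (x i))

/-- The canonical map from the symmetric power to the graded piece. -/
noncomputable def phi : SymmetricPower B ι (KaehlerDifferential A B) →ₗ[B]
    _root_.PP16.grI A B (Fintype.card ι) :=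
  symLift (phiMul s ι) (phiMul_symm s ι)

variable {s ι}

theorem phi_tprod (hs : ∀ w, KaehlerDifferential.fromIdeal A B (s w) = w)
    (x : ι → KaehlerDifferential A B) (ω : ι → B ⊗[A] B)
    (hω : ∀ i, ω i ∈ KaehlerDifferential.ideal A B)
    (h : ∀ i, KaehlerDifferential.fromIdeal A B ⟨ω i, hω i⟩ = x i)
    (hp : ∏ i, ω i ∈ (KaehlerDifferential.ideal A B ^ Fintype.card ι).restrictScalars B) :
    phi s ι (SymmetricPower.tprod B x) = Submodule.Quotient.mk ⟨∏ i, ω i, hp⟩ := by
  rw [phi, symLift_tprod]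
  refine (Submodule.Quotient.eq _).2 ?_
  rw [Submodule.mem_comap]
  change ∏ i, (s (x i) : B ⊗[A] B) - ∏ i, ω i ∈ _
  exact prod_sub_prod_mem (KaehlerDifferential.ideal A B) Finset.univ _ ω
    (fun i _ => (s (x i)).2) (fun i _ => hω i)
    (fun i _ => sub_mem_sq A (s (x i)).2 (hω i) (((hs (x i)).trans (h i).symm)))

theorem phi_tprod_D (hs : ∀ w, KaehlerDifferential.fromIdeal A B (s w) = w) (b : ι → B) :
    phi s ι (SymmetricPower.tprod B fun i => KaehlerDifferential.D A B (b i)) =
      _root_.PP16.zetaProd A B b :=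
  phi_tprod hs _ (fun i => delta A (b i)) (fun i => delta_mem A (b i)) (fun _ => rfl) _

variable (A B) in
/-- Span of products of `k` basic generators. -/
noncomputable def deltaSpan (k : ℕ) : Submodule B (B ⊗[A] B) :=
  Submodule.span B (Set.range fun b : Fin k → B => ∏ i, delta A (b i))

theorem deltaSpan_le (k : ℕ) :
    deltaSpan A B k ≤ (KaehlerDifferential.ideal A B ^ k).restrictScalars B := by
  rw [deltaSpan, Submodule.span_le]
  rintro _ ⟨b, rfl⟩
  rw [SetLike.mem_coe, Submodule.restrictScalars_mem]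
  have := Ideal.prod_mem_prod (s := Finset.univ) (I := fun _ : Fin k => KaehlerDifferential.ideal A B)
    (x := fun i => delta A (b i)) fun i _ => delta_mem A _
  simpa using this

theorem deltaSpan_mul_le (k : ℕ) : deltaSpan A B k * deltaSpan A B 1 ≤ deltaSpan A B (k + 1) := by
  rw [deltaSpan, deltaSpan, Submodule.span_mul_span, Submodule.span_le]
  rintro _ ⟨_, ⟨b, rfl⟩, _, ⟨c, rfl⟩, rfl⟩
  refine Submodule.subset_span ⟨Fin.snoc b (c 0), ?_⟩
  simp [Fin.prod_univ_castSucc]

theorem ideal_le_deltaSpan :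
    (KaehlerDifferential.ideal A B).restrictScalars B ≤
      deltaSpan A B 1 ⊔ (KaehlerDifferential.ideal A B ^ 2).restrictScalars B := by
  intro x hx
  let g : KaehlerDifferential.ideal A B →ₗ[B] KaehlerDifferential A B :=
    (KaehlerDifferential.fromIdeal A B).restrictScalars B
  let W : Submodule B (KaehlerDifferential.ideal A B) :=
    Submodule.span B (Set.range fun b : B => ⟨delta A b, delta_mem A b⟩)
  have hW : W.map g = ⊤ := by
    rw [Submodule.map_span, ← Set.range_comp]
    exact KaehlerDifferential.span_range_derivation A B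
  obtain ⟨y, hy, hyx⟩ : g ⟨x, hx⟩ ∈ W.map g := hW ▸ Submodule.mem_top
  refine Submodule.mem_sup.2 ⟨(y : B ⊗[A] B), ?_, x - y, ?_, add_sub_cancel _ _⟩
  · have := Submodule.mem_map_of_mem
      (f := (KaehlerDifferential.ideal A B).subtype.restrictScalars B) hy
    rw [Submodule.map_span] at this
    refine Submodule.span_mono ?_ this
    rintro _ ⟨_, ⟨b, rfl⟩, rfl⟩
    exact ⟨fun _ => b, by simp⟩
  · exact sub_mem_sq A hx y.2 hyx.symm

theorem pow_le_deltaSpan : ∀ k : ℕ, (KaehlerDifferential.ideal A B ^ k).restrictScalars B ≤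
    deltaSpan A B k ⊔ (KaehlerDifferential.ideal A B ^ (k + 1)).restrictScalars B := by
  intro k
  induction k with
  | zero =>
    rw [pow_zero, zero_add, pow_one]
    intro x _
    induction x using TensorProduct.induction_on with
    | zero => exact zero_mem _
    | tmul b c =>
      refine Submodule.mem_sup.2 ⟨(b * c) • (1 : B ⊗[A] B),
        Submodule.smul_mem _ _ (Submodule.subset_span ⟨Fin.elim0, by simp⟩),
        b • delta A c, Submodule.smul_mem _ _ (delta_mem A c), ?_⟩
      simp [delta, smul_sub, TensorProduct.smul_tmul', Algebra.TensorProduct.one_def]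
    | add x y hx hy => exact add_mem (hx (by simp)) (hy (by simp))
  | succ k ih =>
    intro x hx
    rw [Submodule.restrictScalars_mem, pow_succ] at hx
    induction hx using Submodule.mul_induction_on' with
    | mem_mul_mem a ha b hb =>
      obtain ⟨p, hp, r, hr, rfl⟩ := Submodule.mem_sup.1 (ih ha)
      obtain ⟨p', hp', r', hr', rfl⟩ := Submodule.mem_sup.1 (ideal_le_deltaSpan hb)
      refine Submodule.mem_sup.2 ⟨p * p', deltaSpan_mul_le k (Submodule.mul_mem_mul hp hp'),
        r * (p' + r') + p * r', ?_, by ring⟩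
      refine add_mem ?_ ?_
      · rw [Submodule.restrictScalars_mem] at hr ⊢
        rw [pow_succ _ (k + 1)]; exact Ideal.mul_mem_mul hr hb
      · have := Ideal.mul_mem_mul (deltaSpan_le k hp) hr'
        rwa [← pow_add] at this
    | add x _ y _ hx hy => exact add_mem hx hy

theorem phi_surjective (hs : ∀ w, KaehlerDifferential.fromIdeal A B (s w) = w) :
    Function.Surjective (phi s ι) := by
  intro q
  obtain ⟨⟨x, hx⟩, rfl⟩ := Submodule.Quotient.mk_surjective _ q
  obtain ⟨p, hp, r, hr, rfl⟩ := Submodule.mem_sup.1 (pow_le_deltaSpan (Fintype.card ι) hx)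
  have key : ∀ (p : B ⊗[A] B), p ∈ deltaSpan A B (Fintype.card ι) →
      ∀ h : p ∈ (KaehlerDifferential.ideal A B ^ Fintype.card ι).restrictScalars B,
        (Submodule.Quotient.mk ⟨p, h⟩ : _root_.PP16.grI A B (Fintype.card ι)) ∈
          LinearMap.range (phi s ι) := by
    intro p hp
    induction hp using Submodule.span_induction with
    | mem y hy =>
      obtain ⟨g, rfl⟩ := hy
      intro h
      refine ⟨SymmetricPower.tprod B fun i => KaehlerDifferential.D A B (g (Fintype.equivFin ι i)), ?_⟩
      refine (phi_tprod hs _ (fun i => delta A (g (Fintype.equivFin ι i))) (fun i => delta_mem A _)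
        (fun _ => rfl) (by
          rw [Equiv.prod_comp (Fintype.equivFin ι) fun j => delta A (g j)]; exact h)).trans ?_
      exact congrArg _ (Subtype.ext (Equiv.prod_comp (Fintype.equivFin ι) fun j => delta A (g j)))
    | zero => intro h; exact ⟨0, (map_zero _).trans (Submodule.Quotient.mk_zero _).symm⟩
    | add y z hy hz ihy ihz =>
      intro h
      exact (LinearMap.range (phi s ι)).add_mem (ihy (deltaSpan_le _ hy)) (ihz (deltaSpan_le _ hz))
    | smul c y hy ihy =>
      intro h
      exact (LinearMap.range (phi s ι)).smul_mem c (ihy (deltaSpan_le _ hy))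
  obtain ⟨v, hv⟩ := key p hp (deltaSpan_le _ hp)
  refine ⟨v, hv.trans ((Submodule.Quotient.eq _).2 ?_)⟩
  rw [Submodule.mem_comap]
  change p - (p + r) ∈ _
  rw [show p - (p + r) = -r by ring]
  exact neg_mem hr

theorem phi_injective_of_detect (hs : ∀ w, KaehlerDifferential.fromIdeal A B (s w) = w)
    {J : Type*} (w : J → KaehlerDifferential A B) (hw : Submodule.span B (Set.range w) = ⊤)
    (ω : J → B ⊗[A] B) (hω : ∀ j, ω j ∈ KaehlerDifferential.ideal A B)
    (hwω : ∀ j, KaehlerDifferential.fromIdeal A B ⟨ω j, hω j⟩ = w j)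
    (Λ : B ⊗[A] B →ₗ[B] SymmetricPower B ι (KaehlerDifferential A B))
    (hΛ : ∀ x ∈ KaehlerDifferential.ideal A B ^ (Fintype.card ι + 1), Λ x = 0)
    (hΛω : ∀ g : ι → J, Λ (∏ i, ω (g i)) = SymmetricPower.tprod B fun i => w (g i)) :
    Function.Injective (phi s ι) := by
  let L : _root_.PP16.grI A B (Fintype.card ι) →ₗ[B] SymmetricPower B ι (KaehlerDifferential A B) :=
    Submodule.liftQ _ (Λ ∘ₗ Submodule.subtype _) fun x hx => by
      rw [Submodule.mem_comap] at hx
      exact hΛ _ hx
  refine Function.LeftInverse.injective (g := L) fun q => ?_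
  have : L ∘ₗ phi s ι = LinearMap.id := sym_ext w hw fun g => by
    rw [LinearMap.comp_apply, phi_tprod hs _ (fun i => ω (g i)) (fun i => hω _) (fun i => hwω _)
      (_root_.PP16.prod_mem_pow _ Finset.univ (fun i => ω (g i)) fun i _ => hω (g i))]
    exact hΛω g
  exact LinearMap.congr_fun this q

variable (A B) in
theorem isDiffSmooth_of_detect [Module.Projective B (KaehlerDifferential A B)]
    {J : Type*} (w : J → KaehlerDifferential A B) (hw : Submodule.span B (Set.range w) = ⊤)
    (ω : J → B ⊗[A] B) (hω : ∀ j, ω j ∈ KaehlerDifferential.ideal A B)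
    (hwω : ∀ j, KaehlerDifferential.fromIdeal A B ⟨ω j, hω j⟩ = w j)
    (h : ∀ (ι : Type u) [Fintype ι], ∃ Λ : B ⊗[A] B →ₗ[B] SymmetricPower B ι (KaehlerDifferential A B),
      (∀ x ∈ KaehlerDifferential.ideal A B ^ (Fintype.card ι + 1), Λ x = 0) ∧
      ∀ g : ι → J, Λ (∏ i, ω (g i)) = SymmetricPower.tprod B fun i => w (g i)) :
    _root_.PP16.IsDiffSmooth A B := by
  refine ⟨inferInstance, fun ι _ => ?_⟩
  obtain ⟨s, hs⟩ := exists_section A (B := B)
  obtain ⟨Λ, h1, h2⟩ := h ι
  exact ⟨phi s ι, phi_tprod_D hs, phi_injective_of_detect hs w hw ω hω hwω Λ h1 h2,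
    phi_surjective hs⟩

variable (A B) in
theorem isDiffSmooth_of_taylor [Module.Projective B (KaehlerDifferential A B)] (σ : Type u)
    (i : KaehlerDifferential A B →ₗ[B] σ →₀ B) (r : (σ →₀ B) →ₗ[B] KaehlerDifferential A B)
    (hr : ∀ w, r (i w) = w)
    (h : ∀ m : ℕ, ∃ ψ : B →ₐ[A] Groth.Agent.Diff16.Trunc B σ (m + 1),
      ∀ b, ψ b - Ideal.Quotient.mk _ (C b + lin B σ (i (KaehlerDifferential.D A B b))) ∈
        (idealOfVars σ B ^ 2).map (Ideal.Quotient.mk _)) :
    _root_.PP16.IsDiffSmooth A B := by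
  refine isDiffSmooth_of_detect A B (fun b => KaehlerDifferential.D A B b)
    (KaehlerDifferential.span_range_derivation A B) (fun b => delta A b) (fun b => delta_mem A b)
    (fun b => rfl) fun ι _ => ?_
  set k := Fintype.card ι with hk
  obtain ⟨ψ, hψ⟩ := h k
  let X0 : Ideal (Groth.Agent.Diff16.Trunc B σ (k + 1)) :=
    (idealOfVars σ B).map (Ideal.Quotient.mk _)
  let Ψ : B ⊗[A] B →ₐ[B] Groth.Agent.Diff16.Trunc B σ (k + 1) :=
    Algebra.TensorProduct.lift (Algebra.ofId B _) ψ fun _ _ => Commute.all _ _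
  let Θ : Groth.Agent.Diff16.Trunc B σ (k + 1) →ₗ[B] SymmetricPower B ι (KaehlerDifferential A B) :=
    Submodule.liftQ ((idealOfVars σ B ^ (k + 1 + 1)).restrictScalars B) (theta r) fun x hx =>
      theta_eq_zero_of_mem r (k := k + 1 + 1) (by omega) x hx
  have hΘ0 : ∀ y ∈ X0 ^ (k + 1), Θ y = 0 := by
    intro y hy
    rw [← Ideal.map_pow, Ideal.mem_map_iff_of_surjective _ Ideal.Quotient.mk_surjective] at hy
    obtain ⟨p, hp, rfl⟩ := hy
    exact theta_eq_zero_of_mem r (k := k + 1) (by omega) p hp
  have hlin : ∀ y : σ →₀ B, Ideal.Quotient.mk (idealOfVars σ B ^ (k + 1 + 1)) (lin B σ y) ∈ X0 :=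
    fun y => Ideal.mem_map_of_mem _ (lin_mem y)
  have hdelta : ∀ b, Ψ (delta A b) -
      Ideal.Quotient.mk _ (lin B σ (i (KaehlerDifferential.D A B b))) ∈ X0 ^ 2 := by
    intro b
    rw [← Ideal.map_pow]
    have : Ψ (delta A b) = ψ b - Ideal.Quotient.mk _ (C b) := by
      simp [Ψ, delta]
      rfl
    rw [this, sub_sub, ← map_add]
    exact hψ b
  have hmem : ∀ b, Ψ (delta A b) ∈ X0 := fun b => by
    have h1 := Ideal.pow_le_self (n := 2) (by omega) (hdelta b)
    have h2 := hlin (i (KaehlerDifferential.D A B b))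
    simpa using add_mem h1 h2
  refine ⟨Θ ∘ₗ Ψ.toLinearMap, fun x hx => hΘ0 _ ?_, fun g => ?_⟩
  · have hle : (KaehlerDifferential.ideal A B).map Ψ ≤ X0 := by
      rw [ideal_eq_span A, Ideal.map_span, Ideal.span_le]
      rintro _ ⟨_, ⟨b, rfl⟩, rfl⟩
      exact hmem b
    exact Ideal.pow_right_mono hle _ (by rw [← Ideal.map_pow]; exact Ideal.mem_map_of_mem _ hx)
  · rw [LinearMap.comp_apply, AlgHom.toLinearMap_apply, map_prod]
    have h1 := prod_sub_prod_mem X0 Finset.univ (fun j => Ψ (delta A (g j)))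
      (fun j => Ideal.Quotient.mk _ (lin B σ (i (KaehlerDifferential.D A B (g j)))))
      (fun j _ => hmem _) (fun j _ => hlin _) (fun j _ => hdelta _)
    rw [Finset.card_univ, ← hk] at h1
    have h2 := hΘ0 _ h1
    rw [map_sub, sub_eq_zero] at h2
    rw [h2, ← map_prod]
    change theta r (∏ j, lin B σ (i (KaehlerDifferential.D A B (g j)))) = _
    rw [theta_prod_lin]
    simp only [hr]

variable (A B) in
/-- First order Taylor map in given linear coordinates. -/
theorem exists_first_taylor (σ : Type u) (i : KaehlerDifferential A B →ₗ[B] σ →₀ B) :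
    ∃ φ : B →ₐ[A] Groth.Agent.Diff16.Trunc B σ 1,
      ∀ b, φ b = Ideal.Quotient.mk _ (C b + lin B σ (i (KaehlerDifferential.D A B b))) := by
  let q : MvPolynomial σ B →ₐ[B] Groth.Agent.Diff16.Trunc B σ 1 := Ideal.Quotient.mkₐ B _
  let L : B →ₗ[A] MvPolynomial σ B := (IsScalarTower.toAlgHom A B (MvPolynomial σ B)).toLinearMap +
    ((lin B σ ∘ₗ i).restrictScalars A) ∘ₗ (KaehlerDifferential.D A B).toLinearMap
  have hL : ∀ b, L b = C b + lin B σ (i (KaehlerDifferential.D A B b)) := fun b => rfl
  refine ⟨AlgHom.ofLinearMap ((q.toLinearMap.restrictScalars A) ∘ₗ L) ?_ ?_, fun b => ?_⟩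
  · change q (L 1) = 1
    rw [hL, map_one, Derivation.map_one_eq_zero, map_zero, map_zero, add_zero, map_one]
  · intro b c
    change q (L (b * c)) = q (L b) * q (L c)
    rw [← map_mul]
    refine Ideal.Quotient.eq.2 ?_
    have e : L (b * c) - L b * L c = -(lin B σ (i (KaehlerDifferential.D A B b)) *
        lin B σ (i (KaehlerDifferential.D A B c))) := by
      rw [hL, hL, hL, Derivation.leibniz, map_add, map_smul, map_smul, map_add, map_smul, map_smul,
        MvPolynomial.smul_eq_C_mul, MvPolynomial.smul_eq_C_mul, map_mul]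
      ring
    rw [e, pow_succ, pow_one]
    exact neg_mem (Ideal.mul_mem_mul (lin_mem _) (lin_mem _))
  · rfl

variable (A B) in
theorem isDiffSmooth_of_formallySmooth [Algebra.FormallySmooth A B] :
    _root_.PP16.IsDiffSmooth A B := by
  have : Module.Projective B (KaehlerDifferential A B) := inferInstance
  obtain ⟨i, hi⟩ := (Module.projective_def (R := B) (P := KaehlerDifferential A B)).1 this
  refine isDiffSmooth_of_taylor A B (KaehlerDifferential A B) i
    (Finsupp.linearCombination B id) hi fun m => ?_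
  obtain ⟨φ, hφ⟩ := exists_first_taylor A B (KaehlerDifferential A B) i
  let g : Groth.Agent.Diff16.Trunc B (KaehlerDifferential A B) (m + 1) →ₐ[A]
      Groth.Agent.Diff16.Trunc B (KaehlerDifferential A B) 1 :=
    Ideal.Quotient.factorₐ A (Ideal.pow_le_pow_right (show 1 + 1 ≤ m + 1 + 1 by omega))
  have hgmk : ∀ x : MvPolynomial (KaehlerDifferential A B) B,
      g (Ideal.Quotient.mk _ x) = Ideal.Quotient.mk _ x := fun x => rfl
  have hg : Function.Surjective g := fun y => by
    obtain ⟨x, rfl⟩ := Ideal.Quotient.mk_surjective y; exact ⟨_, hgmk x⟩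
  have hker : ∀ y, g y = 0 →
      y ∈ (idealOfVars (KaehlerDifferential A B) B ^ 2).map (Ideal.Quotient.mk _) := by
    intro y hy
    obtain ⟨x, rfl⟩ := Ideal.Quotient.mk_surjective y
    rw [hgmk, Ideal.Quotient.eq_zero_iff_mem] at hy
    exact Ideal.mem_map_of_mem _ hy
  have hnil : IsNilpotent (RingHom.ker (g : Groth.Agent.Diff16.Trunc B (KaehlerDifferential A B)
      (m + 1) →+* Groth.Agent.Diff16.Trunc B (KaehlerDifferential A B) 1)) := by
    refine ⟨m + 2, ?_⟩
    rw [Ideal.zero_eq_bot, eq_bot_iff]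
    refine (Ideal.pow_right_mono (fun y hy => hker y hy) (m + 2)).trans ?_
    rw [← Ideal.map_pow, ← pow_mul]
    refine (Ideal.map_mono (Ideal.pow_le_pow_right (show m + 1 + 1 ≤ 2 * (m + 2) by omega))).trans ?_
    rw [Ideal.map_quotient_self]
  refine ⟨Algebra.FormallySmooth.liftOfSurjective φ g hg hnil, fun b => hker _ ?_⟩
  rw [map_sub, hgmk, ← hφ, Algebra.FormallySmooth.liftOfSurjective_apply, sub_self]

end Groth.Agent.PP16
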