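import Groth.Agent.PP16.Gr
import Mathlib.Algebra.Order.Antidiag.Pi

set_option autoImplicit false
set_option linter.unusedSectionVars false

open scoped TensorProduct BigOperators
open MvPolynomial

namespace Groth.Agent.PP16

open _root_.Diff16 Groth.Agent.Diff16

universe u

variable (A : Type u) {B : Type u} [CommRing A] [CommRing B] [Algebra A B]
variable {ι : Type*} [Fintype ι] [DecidableEq ι] (z : ι → B)

theorem linearize_smul (D : B →ₗ[A] B) (c : B) (x : B ⊗[A] B) :
    linearize A B B B D (c • x) = c • linearize A B B B D x := by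
  induction x using TensorProduct.induction_on with
  | zero => simp
  | tmul a b => simp [TensorProduct.smul_tmul', linearize_tmul, mul_smul, mul_assoc]
  | add x y hx hy => rw [smul_add, map_add, map_add, hx, hy, smul_add]

/-- `linearize`, as a `B`-linear map. -/
noncomputable def linB (D : B →ₗ[A] B) : B ⊗[A] B →ₗ[B] B where
  toFun := linearize A B B B D
  map_add' := map_add _
  map_smul' := linearize_smul A D

theorem linB_apply (D : B →ₗ[A] B) (x : B ⊗[A] B) : linB A D x = linearize A B B B D x := rfl

theorem linB_zero_of_le {D : B →ₗ[A] B} {k n : ℕ} (hD : IsDiffOpLE A B B B k D) (hkn : k ≤ n)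
    {x : B ⊗[A] B} (hx : x ∈ KaehlerDifferential.ideal A B ^ (n + 1)) : linB A D x = 0 :=
  (isDiffOpLE_iff_linearize k D).1 hD x (Ideal.pow_le_pow_right (by omega) hx)

theorem deltaPow_succ (q : ι → ℕ) (j : ι) :
    deltaPow A z (Function.update q j (q j + 1)) = deltaPow A z q * delta A (z j) := by
  simp only [deltaPow]
  rw [Finset.prod_eq_mul_prod_sdiff_singleton_of_mem (Finset.mem_univ j),
    Finset.prod_eq_mul_prod_sdiff_singleton_of_mem (Finset.mem_univ j) (fun i => delta A (z i) ^ q i),
    Function.update_self, pow_succ, mul_right_comm]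
  congr 2
  exact Finset.prod_congr rfl fun i hi => by rw [Function.update_of_ne (by simpa using hi)]

section ops

variable (hz : Submodule.span B (Set.range fun i => KaehlerDifferential.D A B (z i)) = ⊤)
  (Dp : (ι → ℕ) → (B →ₗ[A] B)) (hD : ∀ p, ∃ k : ℕ, IsDiffOpLE A B B B k (Dp p))
  (hDz : ∀ p q : ι → ℕ, Dp p (∏ i, z i ^ q i) =
    ((∏ i, Nat.choose (q i) (p i) : ℕ) : B) * ∏ i, z i ^ (q i - p i))

include hDz in
theorem dp_one (p : ι → ℕ) : Dp p 1 = if p = 0 then 1 else 0 := by
  have h := hDz p 0
  simp only [Pi.zero_apply, pow_zero, Finset.prod_const_one, zero_tsub, mul_one] at h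
  rw [h]
  split_ifs with hp
  · subst hp; simp
  · obtain ⟨i, hi⟩ := Function.ne_iff.1 hp
    rw [Finset.prod_eq_zero (Finset.mem_univ i)
      (Nat.choose_eq_zero_of_lt (Nat.pos_of_ne_zero hi)), Nat.cast_zero]

include hz hD hDz in
theorem comm_dp (p : ι → ℕ) (j : ι) :
    commutator A B B B (Dp p) (z j) =
      if p j = 0 then 0 else Dp (Function.update p j (p j - 1)) := by
  obtain ⟨k, hk⟩ := hD p
  obtain ⟨k', hk'⟩ := hD (Function.update p j (p j - 1))
  have h2 : IsDiffOpLE A B B B k'
      (if p j = 0 then 0 else Dp (Function.update p j (p j - 1))) := by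
    split_ifs
    exacts [IsDiffOpLE.zero k', hk']
  refine eq_of_monomials z hz (IsDiffOpLE.succ hk (z j)) h2 fun q => ?_
  let f : ι → ℕ → ℕ → B := fun i q p => (Nat.choose q p : B) * z i ^ (q - p)
  have hF : ∀ p q : ι → ℕ, Dp p (∏ i, z i ^ q i) = f j (q j) (p j) *
      ∏ i ∈ Finset.univ.erase j, f i (q i) (p i) := fun p q => by
    rw [hDz, Nat.cast_prod, ← Finset.prod_mul_distrib,
      Finset.mul_prod_erase Finset.univ (fun i => f i (q i) (p i)) (Finset.mem_univ j)]
  have hupd : ∀ (r : ι → ℕ) (v : ℕ), ∀ i ∈ Finset.univ.erase j, Function.update r j v i = r i :=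
    fun r v i hi => Function.update_of_ne (Finset.ne_of_mem_erase hi) _ _
  have he : z j * ∏ i, z i ^ q i = ∏ i, z i ^ (Function.update q j (q j + 1)) i := by
    rw [← Finset.mul_prod_erase Finset.univ (fun i => z i ^ q i) (Finset.mem_univ j),
      ← Finset.mul_prod_erase Finset.univ _ (Finset.mem_univ j), Function.update_self, pow_succ',
      mul_assoc]
    congr 2
    exact Finset.prod_congr rfl fun i hi => by rw [hupd q _ i hi]
  rw [comm_apply, smul_eq_mul, smul_eq_mul, he, hF, hF, Function.update_self,
    Finset.prod_congr rfl fun i hi => by rw [hupd q _ i hi], ← mul_assoc, ← sub_mul]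
  split_ifs with hp
  · have : f j (q j + 1) (p j) - z j * f j (q j) (p j) = 0 := by simp [f, hp, pow_succ']
    rw [this, zero_mul]; rfl
  · obtain ⟨a, ha⟩ := Nat.exists_eq_succ_of_ne_zero hp
    have hp' : ∏ i ∈ Finset.univ.erase j, f i (q i) (Function.update p j (p j - 1) i) =
        ∏ i ∈ Finset.univ.erase j, f i (q i) (p i) :=
      Finset.prod_congr rfl fun i hi => by rw [hupd p _ i hi]
    rw [hF, Function.update_self, hp']
    congr 1
    simp only [f, ha, Nat.succ_eq_add_one, Nat.add_sub_cancel, Nat.choose_succ_succ, Nat.cast_add,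
      Nat.add_sub_add_right, add_mul]
    rcases Nat.lt_or_ge (q j) (a + 1) with hlt | hge
    · simp [Nat.choose_eq_zero_of_lt hlt]
    · rw [show q j - a = q j - (a + 1) + 1 by omega, pow_succ']; ring

include hz hD hDz in
theorem dp_order : ∀ (n : ℕ) (p : ι → ℕ), ∑ i, p i = n → IsDiffOpLE A B B B n (Dp p) := by
  intro n
  induction n with
  | zero =>
    intro p hp
    obtain ⟨k, hk⟩ := hD p
    refine isDiffOpLE_zero_of_comm z hz k _ hk fun j => ?_
    rw [comm_dp A z hz Dp hD hDz, if_pos]
    exact (Finset.sum_eq_zero_iff.1 hp) j (Finset.mem_univ j)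
  | succ n ih =>
    intro p hp
    obtain ⟨k, hk⟩ := hD p
    refine isDiffOpLE_succ_of_coord z hz n k _ hk fun j => ?_
    rw [comm_dp A z hz Dp hD hDz]
    split_ifs with hj
    · exact IsDiffOpLE.zero n
    · refine ih _ ?_
      have h1 := Finset.add_sum_erase Finset.univ p (Finset.mem_univ j)
      have h2 := Finset.add_sum_erase Finset.univ (Function.update p j (p j - 1)) (Finset.mem_univ j)
      rw [Function.update_self, Finset.sum_congr rfl fun i hi =>
        Function.update_of_ne (Finset.ne_of_mem_erase hi) _ _] at h2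
      omega

include hz hD hDz in
theorem linB_dp_deltaPow : ∀ (n : ℕ) (p q : ι → ℕ), ∑ i, q i = n →
    linB A (Dp p) (deltaPow A z q) = if q = p then 1 else 0 := by
  intro n
  induction n with
  | zero =>
    intro p q hq
    obtain rfl : q = 0 := funext fun i => (Finset.sum_eq_zero_iff.1 hq) i (Finset.mem_univ i)
    have h0 : deltaPow A z 0 = (1 : B) ⊗ₜ[A] (1 : B) := by
      simp [deltaPow, Algebra.TensorProduct.one_def]
    rw [linB_apply, h0, linearize_tmul, one_smul, dp_one A z Dp hDz]
    simp [eq_comm]
  | succ n ih =>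
    intro p q hq
    obtain ⟨j, hj⟩ : ∃ j, q j ≠ 0 := by
      by_contra h
      push Not at h
      simp [h] at hq
    have hq' : ∑ i, Function.update q j (q j - 1) i = n := by
      have h1 := Finset.add_sum_erase Finset.univ q (Finset.mem_univ j)
      have h2 := Finset.add_sum_erase Finset.univ (Function.update q j (q j - 1)) (Finset.mem_univ j)
      rw [Function.update_self, Finset.sum_congr rfl fun i hi =>
        Function.update_of_ne (Finset.ne_of_mem_erase hi) _ _] at h2
      omega
    have hqe : q = Function.update (Function.update q j (q j - 1)) j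
        (Function.update q j (q j - 1) j + 1) := by
      rw [Function.update_idem, Function.update_self, Nat.sub_add_cancel (Nat.pos_of_ne_zero hj),
        Function.update_eq_self]
    conv_lhs => rw [hqe, deltaPow_succ, linB_apply, linearize_mul_delta, comm_dp A z hz Dp hD hDz]
    split_ifs with hp hqp hqp
    · exact absurd (hqp ▸ hp) hj
    · rw [← linB_apply]
      induction deltaPow A z (Function.update q j (q j - 1)) using TensorProduct.induction_on with
      | zero => exact map_zero _
      | tmul c d => simp [linB_apply, linearize_tmul]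
      | add x y hx hy => rw [map_add, hx, hy, add_zero]
    · subst hqp
      rw [← linB_apply, ih _ _ hq', if_pos rfl]
    · rw [← linB_apply, ih _ _ hq', if_neg]
      intro h
      apply hqp
      funext i
      by_cases hi : i = j
      · subst hi
        have := congrFun h i
        rw [Function.update_self, Function.update_self] at this
        omega
      · have := congrFun h i
        rwa [Function.update_of_ne hi, Function.update_of_ne hi] at this

include hz hD hDz in
theorem coeff_eq_zero_of_ops (S : Finset (ι → ℕ)) (a : (ι → ℕ) → B) {m : ℕ}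
    (hS : ∀ p ∈ S, ∑ i, p i ≤ m)
    (hmem : ∑ p ∈ S, a p • deltaPow A z p ∈ KaehlerDifferential.ideal A B ^ (m + 1)) :
    ∀ p ∈ S, a p = 0 := by
  intro p hp
  have h := linB_zero_of_le A (dp_order A z hz Dp hD hDz _ p rfl) (hS p hp) hmem
  rw [map_sum, Finset.sum_eq_single p] at h
  · rwa [map_smul, linB_dp_deltaPow A z hz Dp hD hDz _ p p rfl, if_pos rfl, smul_eq_mul,
      mul_one] at h
  · intro q _ hqp
    rw [map_smul, linB_dp_deltaPow A z hz Dp hD hDz _ p q rfl, if_neg hqp, smul_zero]
  · exact fun h => absurd hp h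

include hz hD hDz in
theorem isDiffSmooth_of_ops :
    _root_.PP16.IsDiffSmooth A B ∧
      ∃ b : Module.Basis ι B (KaehlerDifferential A B), ∀ i, b i = KaehlerDifferential.D A B (z i) := by
  have hli : LinearIndependent B fun i => KaehlerDifferential.D A B (z i) := by
    rw [Fintype.linearIndependent_iff]
    intro c hc j
    have hmem : ∑ i, c i • delta A (z i) ∈ KaehlerDifferential.ideal A B ^ 2 := by
      have hI : ∑ i, c i • delta A (z i) ∈ KaehlerDifferential.ideal A B :=
        Ideal.sum_mem _ fun i _ => Submodule.smul_of_tower_mem _ _ (delta_mem A _)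
      have := sub_mem_sq A hI (zero_mem _) (by
        change ((KaehlerDifferential.fromIdeal A B).restrictScalars B) _ =
          ((KaehlerDifferential.fromIdeal A B).restrictScalars B) (0 : KaehlerDifferential.ideal A B)
        rw [map_zero, show (⟨_, hI⟩ : KaehlerDifferential.ideal A B) =
          ∑ i, c i • (⟨delta A (z i), delta_mem A _⟩ : KaehlerDifferential.ideal A B) from
          Subtype.ext (by simp [delta]), map_sum, ← hc]
        refine Finset.sum_congr rfl fun i _ => ?_
        rw [map_smul]
        rfl)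
      simpa using this
    have e : ∀ i, delta A (z i) = deltaPow A z (Pi.single i 1) := fun i => by
      simp only [deltaPow]
      rw [Finset.prod_eq_single i (fun k _ hk => by simp [hk]) (by simp), Pi.single_eq_same, pow_one]
    have hsum : ∀ i, ∑ k, (Pi.single i 1 : ι → ℕ) k = 1 := fun i => by simp
    have h := linB_zero_of_le A (dp_order A z hz Dp hD hDz 1 (Pi.single j 1) (hsum j)) le_rfl
      (show _ ∈ KaehlerDifferential.ideal A B ^ (1 + 1) from hmem)
    rw [map_sum, Finset.sum_eq_single j] at h
    · rwa [map_smul, e, linB_dp_deltaPow A z hz Dp hD hDz 1 _ _ (hsum j), if_pos rfl, smul_eq_mul,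
        mul_one] at h
    · intro i _ hij
      rw [map_smul, e, linB_dp_deltaPow A z hz Dp hD hDz 1 _ _ (hsum i), if_neg, smul_zero]
      intro h
      have := congrFun h i
      rw [Pi.single_eq_same, Pi.single_eq_of_ne hij] at this
      omega
    · simp
  let b₀ := Module.Basis.mk hli hz.ge
  have hb₀ : ∀ i, b₀ i = KaehlerDifferential.D A B (z i) := fun i => Module.Basis.mk_apply hli hz.ge i
  have : Module.Projective B (KaehlerDifferential A B) := Module.Projective.of_basis b₀
  refine ⟨?_, b₀, hb₀⟩
  refine isDiffSmooth_of_detect A B (fun i => KaehlerDifferential.D A B (z i)) hz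
    (fun i => delta A (z i)) (fun i => delta_mem A _) (fun i => rfl) fun κ _ => ?_
  classical
  let t : (ι → ℕ) → SymmetricPower B κ (KaehlerDifferential A B) := fun p =>
    if h : ∃ g : κ → ι, ⇑(expo g) = p then
      SymmetricPower.tprod B fun i => KaehlerDifferential.D A B (z (h.choose i))
    else 0
  let S := Finset.piAntidiag (Finset.univ : Finset ι) (Fintype.card κ)
  refine ⟨∑ p ∈ S, (LinearMap.toSpanSingleton B _ (t p)) ∘ₗ linB A (Dp p), fun x hx => ?_,
    fun g => ?_⟩
  · simp only [LinearMap.sum_apply, LinearMap.comp_apply]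
    refine Finset.sum_eq_zero fun p hp => ?_
    rw [linB_zero_of_le A (dp_order A z hz Dp hD hDz _ p rfl)
      (Finset.mem_piAntidiag.1 hp).1.le hx, map_zero]
  · have hprod : ∏ i, delta A (z (g i)) = deltaPow A z (expo g) := by
      have := congrArg (MvPolynomial.aeval (R := A) fun j => delta A (z j)) (prod_X (R := A) g)
      simpa [deltaPow, aeval_monomial, Finsupp.prod_fintype, ← Algebra.TensorProduct.one_def] using this
    have hg : ⇑(expo g) ∈ S := by
      simp only [S, Finset.mem_piAntidiag, Finset.mem_univ, implies_true, and_true]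
      rw [← Finsupp.degree_eq_sum, degree_expo]
    simp only [LinearMap.sum_apply, LinearMap.comp_apply, hprod]
    rw [Finset.sum_eq_single (⇑(expo g))]
    · rw [linB_dp_deltaPow A z hz Dp hD hDz _ _ _ rfl, if_pos rfl,
        LinearMap.toSpanSingleton_apply, one_smul]
      have hex : ∃ g' : κ → ι, ⇑(expo g') = ⇑(expo g) := ⟨g, rfl⟩
      simp only [t, dif_pos hex]
      obtain ⟨e, he⟩ := exists_perm_of_expo_eq (DFunLike.coe_injective hex.choose_spec)
      rw [← SymmetricPower.tprod_equiv e fun i => KaehlerDifferential.D A B (z (g i))]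
      simp only [he]
    · intro p _ hp
      rw [linB_dp_deltaPow A z hz Dp hD hDz _ _ _ rfl, if_neg hp.symm, map_zero]
    · exact fun h => absurd hg h

end ops

/-- Multi-indices of degree at most `m`. -/
noncomputable def degLE (ι : Type*) [Fintype ι] [DecidableEq ι] (m : ℕ) : Finset (ι → ℕ) :=
  (Finset.range (m + 1)).biUnion fun k => Finset.piAntidiag Finset.univ k

theorem mem_degLE {m : ℕ} {p : ι → ℕ} : p ∈ degLE ι m ↔ ∑ i, p i ≤ m := by
  simp [degLE]

theorem exists_monomialBasis
    (hz : Submodule.span B (Set.range fun i => KaehlerDifferential.D A B (z i)) = ⊤) (m : ℕ)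
    (hind : ∀ a : (ι → ℕ) → B,
      ∑ p ∈ degLE ι m, a p • deltaPow A z p ∈ KaehlerDifferential.ideal A B ^ (m + 1) →
        ∀ p ∈ degLE ι m, a p = 0) :
    ∃ b : Module.Basis {p : ι → ℕ // ∑ i, p i ≤ m} B (_root_.PP16.P m A B),
      ∀ p, b p = ∏ i, (_root_.PP16.dn m A B (z i) - algebraMap B (_root_.PP16.P m A B) (z i)) ^ (p.1 i) := by
  let _ : Fintype {p : ι → ℕ // ∑ i, p i ≤ m} := Fintype.subtype (degLE ι m) fun p => mem_degLE
  let v : {p : ι → ℕ // ∑ i, p i ≤ m} → _root_.PP16.P m A B := fun p =>
    ∏ i, (_root_.PP16.dn m A B (z i) - algebraMap B (_root_.PP16.P m A B) (z i)) ^ (p.1 i)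
  have hv : ∀ p, v p = Ideal.Quotient.mk _ (deltaPow A z p.1) := fun p => by
    simp only [deltaPow, map_prod, map_pow, map_sub]
    rfl
  have hli : LinearIndependent B v := by
    rw [Fintype.linearIndependent_iff]
    intro a ha p
    let a' : (ι → ℕ) → B := fun q => if h : ∑ i, q i ≤ m then a ⟨q, h⟩ else 0
    have hs : ∑ q ∈ degLE ι m, a' q • deltaPow A z q =
        ∑ q : {p : ι → ℕ // ∑ i, p i ≤ m}, a q • deltaPow A z q.1 := by
      rw [Finset.sum_subtype (degLE ι m) (fun q => mem_degLE)]
      exact Finset.sum_congr rfl fun q _ => by simp [a', q.2]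
    have := hind a' (by
      rw [hs, ← Ideal.Quotient.eq_zero_iff_mem]
      change (Ideal.Quotient.mkₐ B _).toLinearMap _ = 0
      rw [map_sum, ← ha]
      exact Finset.sum_congr rfl fun q _ => by rw [map_smul, hv]; rfl) p.1 (mem_degLE.2 p.2)
    simpa [a', p.2] using this
  exact ⟨Module.Basis.mk hli (span_monomials_P A z hz m).ge, fun p => Module.Basis.mk_apply hli _ p⟩

theorem coeff_eq_zero_of_isDiffSmooth (hB : _root_.PP16.IsDiffSmooth A B)
    (b₀ : Module.Basis ι B (KaehlerDifferential A B))
    (hb₀ : ∀ i, b₀ i = KaehlerDifferential.D A B (z i)) :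
    ∀ (m : ℕ) (a : (ι → ℕ) → B),
      ∑ p ∈ degLE ι m, a p • deltaPow A z p ∈ KaehlerDifferential.ideal A B ^ (m + 1) →
        ∀ p ∈ degLE ι m, a p = 0 := by
  classical
  have top : ∀ (k : ℕ) (a : (ι → ℕ) → B),
      ∑ p ∈ Finset.piAntidiag Finset.univ k, a p • deltaPow A z p ∈
          KaehlerDifferential.ideal A B ^ (k + 1) →
        ∀ p ∈ Finset.piAntidiag Finset.univ k, a p = 0 := by
    intro k a ha
    let κ : Type u := ULift.{u} (Fin k)
    have hκ : Fintype.card κ = k := by simp [κ]
    obtain ⟨φ, hφ, hbij⟩ := hB.2 κ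
    have hg : ∀ p ∈ Finset.piAntidiag Finset.univ k, ∃ g : κ → ι, ⇑(expo g) = p := by
      intro p hp
      obtain ⟨g, hg⟩ := exists_fun_expo (ι := κ) (Finsupp.equivFunOnFinite.symm p) (by
        rw [hκ, Finsupp.degree_eq_sum]
        simpa using (Finset.mem_piAntidiag.1 hp).1)
      exact ⟨g, by rw [hg]; rfl⟩
    let t : (ι → ℕ) → SymmetricPower B κ (KaehlerDifferential A B) := fun p =>
      if h : ∃ g : κ → ι, ⇑(expo g) = p then
        SymmetricPower.tprod B fun i => KaehlerDifferential.D A B (z (h.choose i))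
      else 0
    have hmem : ∀ p ∈ Finset.piAntidiag Finset.univ k,
        deltaPow A z p ∈ (KaehlerDifferential.ideal A B ^ Fintype.card κ).restrictScalars B := by
      intro p hp
      rw [hκ, Submodule.restrictScalars_mem, ← (Finset.mem_piAntidiag.1 hp).1]
      exact deltaPow_mem A z p
    have hφt : ∀ p (hp : p ∈ Finset.piAntidiag Finset.univ k),
        φ (t p) = Submodule.Quotient.mk ⟨deltaPow A z p, hmem p hp⟩ := by
      intro p hp
      simp only [t, dif_pos (hg p hp)]
      rw [hφ]
      refine congrArg _ (Subtype.ext ?_)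
      have h := congrArg (MvPolynomial.aeval (R := A) fun j => delta A (z j))
        (prod_X (R := A) (hg p hp).choose)
      simp only [map_prod, aeval_X, aeval_monomial, map_one, one_mul] at h
      rw [Finsupp.prod_fintype _ _ (fun i => pow_zero _), (hg p hp).choose_spec] at h
      exact h
    have h0 : ∑ p ∈ Finset.piAntidiag Finset.univ k, a p • t p = 0 := by
      apply hbij.1
      rw [map_zero, map_sum, ← Finset.sum_attach]
      have : ∀ p : {p // p ∈ Finset.piAntidiag (Finset.univ : Finset ι) k},
          φ (a p.1 • t p.1) = Submodule.Quotient.mk (a p.1 • ⟨deltaPow A z p.1, hmem p.1 p.2⟩) :=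
        fun p => by rw [map_smul, hφt p.1 p.2]; rfl
      simp only [this, ← Submodule.mkQ_apply, ← map_sum]
      rw [Submodule.mkQ_apply, Submodule.Quotient.mk_eq_zero, Submodule.mem_comap, map_sum,
        Submodule.restrictScalars_mem]
      rw [← Finset.sum_attach] at ha
      have hpow : KaehlerDifferential.ideal A B ^ (Fintype.card κ + 1) =
          KaehlerDifferential.ideal A B ^ (k + 1) := by rw [hκ]
      rw [← hpow] at ha
      simpa using ha
    let f := (b₀.repr : KaehlerDifferential A B →ₗ[B] ι →₀ B)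
    let L : SymmetricPower B κ (KaehlerDifferential A B) →ₗ[B] MvPolynomial ι B :=
      symLift ((MultilinearMap.mkPiAlgebra B κ (MvPolynomial ι B)).compLinearMap
        fun _ => lin B ι ∘ₗ f) fun e x => by
          simp only [MultilinearMap.compLinearMap_apply, MultilinearMap.mkPiAlgebra_apply]
          exact Equiv.prod_comp e fun i => (lin B ι ∘ₗ f) (x i)
    have hLt : ∀ p ∈ Finset.piAntidiag Finset.univ k,
        L (t p) = monomial (Finsupp.equivFunOnFinite.symm p) 1 := by
      intro p hp
      simp only [t, dif_pos (hg p hp), L, symLift_tprod, MultilinearMap.compLinearMap_apply,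
        MultilinearMap.mkPiAlgebra_apply, LinearMap.comp_apply, f, LinearEquiv.coe_coe, ← hb₀,
        Module.Basis.repr_self, lin_single_one, prod_X]
      congr
      exact DFunLike.coe_injective ((hg p hp).choose_spec)
    intro p hp
    have h1 := congrArg L h0
    rw [map_sum, map_zero] at h1
    have h2 := congrArg (coeff (Finsupp.equivFunOnFinite.symm p)) h1
    rw [coeff_sum, coeff_zero, Finset.sum_eq_single p] at h2
    · simpa [map_smul, hLt p hp] using h2
    · intro q hq hqp
      rw [map_smul, hLt q hq, coeff_smul, coeff_monomial,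
        if_neg (fun h => hqp (Finsupp.equivFunOnFinite.symm.injective h)), smul_zero]
    · exact fun h => absurd hp h
  have hsplit : ∀ (m : ℕ) (a : (ι → ℕ) → B),
      ∑ p ∈ degLE ι m, a p • deltaPow A z p =
        ∑ k ∈ Finset.range (m + 1), ∑ p ∈ Finset.piAntidiag Finset.univ k, a p • deltaPow A z p := by
    intro m a
    rw [degLE, Finset.sum_biUnion]
    intro k _ l _ hkl
    exact Finset.disjoint_left.2 fun p h1 h2 =>
      hkl ((Finset.mem_piAntidiag.1 h1).1.symm.trans (Finset.mem_piAntidiag.1 h2).1)
  intro m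
  induction m with
  | zero =>
    intro a ha p hp
    rw [hsplit, Finset.sum_range_one] at ha
    exact top 0 a ha p (by simp [mem_degLE] at hp; simp [hp, funext_iff])
  | succ m ih =>
    intro a ha
    have hsum : ∑ p ∈ degLE ι (m + 1), a p • deltaPow A z p =
        ∑ p ∈ degLE ι m, a p • deltaPow A z p +
          ∑ p ∈ Finset.piAntidiag Finset.univ (m + 1), a p • deltaPow A z p := by
      rw [hsplit, hsplit, Finset.sum_range_succ]
    rw [hsum] at ha
    have htop : ∑ p ∈ Finset.piAntidiag Finset.univ (m + 1), a p • deltaPow A z p ∈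
        KaehlerDifferential.ideal A B ^ (m + 1) := by
      refine Ideal.sum_mem _ fun p hp => Submodule.smul_of_tower_mem _ _ ?_
      rw [← (Finset.mem_piAntidiag.1 hp).1]
      exact deltaPow_mem A z p
    have hlow := sub_mem (Ideal.pow_le_pow_right (Nat.le_succ (m + 1)) ha) htop
    rw [add_sub_cancel_right] at hlow
    have h1 := ih a hlow
    have e : ∑ p ∈ degLE ι m, a p • deltaPow A z p = 0 :=
      Finset.sum_eq_zero fun p hp => by rw [h1 p hp, zero_smul]
    rw [e, zero_add] at ha
    intro p hp
    rcases Nat.lt_or_ge (∑ i, p i) (m + 1) with h | h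
    · exact h1 p (mem_degLE.2 (by omega))
    · exact top _ a ha p (by
        simp only [Finset.mem_piAntidiag, Finset.mem_univ, implies_true, and_true]
        exact le_antisymm (mem_degLE.1 hp) h)

theorem exists_ops_of_basis (hbasis : ∀ m : ℕ,
    ∃ b : Module.Basis {p : ι → ℕ // ∑ i, p i ≤ m} B (_root_.PP16.P m A B),
      ∀ p, b p = ∏ i, (_root_.PP16.dn m A B (z i) - algebraMap B (_root_.PP16.P m A B) (z i)) ^ (p.1 i))
    (p : ι → ℕ) :
    ∃ D : B →ₗ[A] B, IsDiffOpLE A B B B (∑ i, p i) D ∧ ∀ q : ι → ℕ, D (∏ i, z i ^ q i) =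
      ((∏ i, Nat.choose (q i) (p i) : ℕ) : B) * ∏ i, z i ^ (q i - p i) := by
  classical
  set m := ∑ i, p i with hm
  obtain ⟨b, hb⟩ := hbasis m
  let c := b.coord ⟨p, hm.ge⟩
  refine ⟨(c.restrictScalars A) ∘ₗ (_root_.PP16.dn m A B).toLinearMap, ?_, fun q => ?_⟩
  · rw [isDiffOpLE_iff_linearize]
    have h : ∀ x, linearize A B B B ((c.restrictScalars A) ∘ₗ (_root_.PP16.dn m A B).toLinearMap) x =
        c (Ideal.Quotient.mk _ x) := by
      intro x
      induction x using TensorProduct.induction_on with
      | zero => simp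
      | tmul s t =>
        rw [linearize_tmul]
        change s • c (_root_.PP16.dn m A B t) = _
        rw [← map_smul]
        congr 1
        change Ideal.Quotient.mk _ (s • ((1 : B) ⊗ₜ[A] t)) = _
        rw [TensorProduct.smul_tmul', smul_eq_mul, mul_one]
      | add x y hx hy => rw [map_add, map_add, map_add, hx, hy]
    intro x hx
    rw [h, Ideal.Quotient.eq_zero_iff_mem.2 hx, map_zero]
  · change c (_root_.PP16.dn m A B (∏ i, z i ^ q i)) = _
    let ζ : ι → _root_.PP16.P m A B := fun i =>
      _root_.PP16.dn m A B (z i) - algebraMap B (_root_.PP16.P m A B) (z i)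
    have hdn : ∀ i, _root_.PP16.dn m A B (z i) = ζ i + algebraMap B (_root_.PP16.P m A B) (z i) :=
      fun i => (sub_add_cancel _ _).symm
    rw [map_prod]
    simp only [map_pow, hdn, add_pow]
    rw [Finset.prod_univ_sum, map_sum]
    have hterm : ∀ k : ι → ℕ,
        ∏ i, ζ i ^ k i * algebraMap B (_root_.PP16.P m A B) (z i) ^ (q i - k i) *
            ((q i).choose (k i) : _root_.PP16.P m A B) =
          (((∏ i, Nat.choose (q i) (k i) : ℕ) : B) * ∏ i, z i ^ (q i - k i)) • ∏ i, ζ i ^ k i := by
      intro k
      rw [Algebra.smul_def]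
      simp only [map_mul, map_natCast, map_prod, map_pow, Nat.cast_prod, Finset.prod_mul_distrib]
      ring
    have hzero : ∀ k : ι → ℕ, c (∏ i, ζ i ^ k i) = if k = p then 1 else 0 := by
      intro k
      rcases Nat.lt_or_ge m (∑ i, k i) with hk | hk
      · rw [if_neg (fun h => by subst h; omega)]
        have : ∏ i, ζ i ^ k i = Ideal.Quotient.mk _ (deltaPow A z k) := by
          simp only [deltaPow, map_prod, map_pow, map_sub]
          rfl
        rw [this, Ideal.Quotient.eq_zero_iff_mem.2
          (Ideal.pow_le_pow_right hk (deltaPow_mem A z k)), map_zero]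
      · rw [show ∏ i, ζ i ^ k i = b ⟨k, hk⟩ from (hb ⟨k, hk⟩).symm]
        simp [c, Finsupp.single_apply, Subtype.ext_iff]
    rw [Finset.sum_eq_single p]
    · rw [hterm, map_smul, hzero, if_pos rfl, smul_eq_mul, mul_one]
    · intro k _ hk
      rw [hterm, map_smul, hzero, if_neg hk, smul_zero]
    · intro hp
      simp only [Fintype.mem_piFinset, Finset.mem_range, not_forall, not_lt] at hp
      obtain ⟨i, hi⟩ := hp
      rw [hterm, Finset.prod_eq_zero (Finset.mem_univ i) (Nat.choose_eq_zero_of_lt (by omega)),
        Nat.cast_zero, zero_mul, zero_smul, map_zero]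

end Groth.Agent.PP16
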