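import Groth.Agent.PP16.MonBasis
import Mathlib.RingTheory.Kaehler.Polynomial
import Mathlib.RingTheory.Etale.Kaehler
import Mathlib.RingTheory.TensorProduct.Free

set_option autoImplicit false
set_option linter.unusedSectionVars false

open scoped TensorProduct BigOperators
open MvPolynomial

namespace Groth.Agent.PP16

universe u

section

variable (A : Type u) {B : Type u} [CommRing A] [CommRing B] [Algebra A B]
variable {ι : Type*} [Fintype ι] [DecidableEq ι] (z : ι → B)

theorem aeval_zeta_surj_ker
    (hz : Submodule.span B (Set.range fun i => KaehlerDifferential.D A B (z i)) = ⊤) (n : ℕ)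
    (hind : ∀ a : (ι → ℕ) → B,
      ∑ p ∈ degLE ι n, a p • deltaPow A z p ∈ KaehlerDifferential.ideal A B ^ (n + 1) →
        ∀ p ∈ degLE ι n, a p = 0) :
    Function.Surjective (MvPolynomial.aeval (R := B) (S₁ := _root_.PP16.P n A B)
        (fun i => _root_.PP16.dn n A B (z i) - algebraMap B (_root_.PP16.P n A B) (z i))) ∧
      RingHom.ker (MvPolynomial.aeval (R := B) (S₁ := _root_.PP16.P n A B)
        (fun i => _root_.PP16.dn n A B (z i) - algebraMap B (_root_.PP16.P n A B) (z i))).toRingHom =
        idealOfVars ι B ^ (n + 1) := by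
  classical
  set f := MvPolynomial.aeval (R := B) (S₁ := _root_.PP16.P n A B)
    (fun i => _root_.PP16.dn n A B (z i) - algebraMap B (_root_.PP16.P n A B) (z i)) with hf
  let g : MvPolynomial ι B →ₐ[B] B ⊗[A] B := MvPolynomial.aeval fun i => delta A (z i)
  have hfg : ∀ p, f p = Ideal.Quotient.mk _ (g p) := fun p => by
    have : f = (Ideal.Quotient.mkₐ B _).comp g := MvPolynomial.algHom_ext fun i => by
      simp only [hf, g, AlgHom.comp_apply, aeval_X, delta, map_sub]
      rfl
    rw [this]; rfl
  refine ⟨fun x => ?_, le_antisymm ?_ ?_⟩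
  · have hx : x ∈ Submodule.span B (Set.range fun p : {p : ι → ℕ // ∑ i, p i ≤ n} =>
        ∏ i, (_root_.PP16.dn n A B (z i) - algebraMap B (_root_.PP16.P n A B) (z i)) ^ p.1 i) :=
      span_monomials_P A z hz n ▸ Submodule.mem_top
    induction hx using Submodule.span_induction with
    | mem y hy =>
      obtain ⟨p, rfl⟩ := hy
      exact ⟨∏ i, X i ^ p.1 i, by simp [hf, map_prod]⟩
    | zero => exact ⟨0, map_zero f⟩
    | add u v _ _ hu hv =>
      obtain ⟨a, rfl⟩ := hu
      obtain ⟨b, rfl⟩ := hv
      exact ⟨a + b, map_add f a b⟩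
    | smul c u _ hu =>
      obtain ⟨a, rfl⟩ := hu
      exact ⟨c • a, map_smul f c a⟩
  · intro p hp
    rw [mem_pow_idealOfVars_iff']
    intro d hd
    have hp0 : g p ∈ KaehlerDifferential.ideal A B ^ (n + 1) :=
      Ideal.Quotient.eq_zero_iff_mem.1 ((hfg p).symm.trans hp)
    let a : (ι → ℕ) → B := fun q => coeff (Finsupp.equivFunOnFinite.symm q) p
    have hmon : ∀ (q : ι →₀ ℕ) (c : B), g (monomial q c) = c • deltaPow A z q := fun q c => by
      simp only [g, aeval_monomial, Finsupp.prod_fintype _ _ (fun i => pow_zero _), deltaPow,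
        Algebra.smul_def]
    have hsplit : g p - ∑ q ∈ degLE ι n, a q • deltaPow A z q ∈
        KaehlerDifferential.ideal A B ^ (n + 1) := by
      have hsum : ∑ q ∈ degLE ι n, a q • deltaPow A z q =
          ∑ q ∈ (degLE ι n).map Finsupp.equivFunOnFinite.symm.toEmbedding,
            coeff q p • deltaPow A z q := by
        rw [Finset.sum_map]
        rfl
      let S := (degLE ι n).map Finsupp.equivFunOnFinite.symm.toEmbedding
      have hgp : g p = ∑ q ∈ p.support ∪ S, coeff q p • deltaPow A z q := by
        conv_lhs => rw [← p.support_sum_monomial_coeff, map_sum]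
        simp only [hmon]
        refine Finset.sum_subset Finset.subset_union_left fun q _ hq => ?_
        rw [notMem_support_iff.1 hq, zero_smul]
      rw [hsum, hgp, ← Finset.sum_sdiff_eq_sub Finset.subset_union_right]
      refine Ideal.sum_mem _ fun q hq => Submodule.smul_of_tower_mem _ _ ?_
      have hdeg : n + 1 ≤ ∑ i, q i := by
        by_contra h
        exact (Finset.mem_sdiff.1 hq).2
          (Finset.mem_map.2 ⟨⇑q, mem_degLE.2 (by omega), Finsupp.equivFunOnFinite_symm_coe q⟩)
      exact Ideal.pow_le_pow_right hdeg (deltaPow_mem A z q)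
    have h2 := sub_mem hp0 hsplit
    rw [sub_sub_cancel] at h2
    have := hind a h2 (⇑d) (mem_degLE.2 (by rw [Finsupp.degree_eq_sum] at hd; omega))
    simpa [a] using this
  · have hle : idealOfVars ι B ≤ ((KaehlerDifferential.ideal A B).comap g) := by
      rw [idealOfVars, Ideal.span_le]
      rintro _ ⟨i, rfl⟩
      simpa [g] using delta_mem A (z i)
    intro p hp
    have := Ideal.le_comap_pow _ (n + 1) (Ideal.pow_right_mono hle (n + 1) hp)
    change f p = 0
    rw [hfg, Ideal.Quotient.eq_zero_iff_mem]
    exact this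

end

theorem fractionRing_diffData (k : Type u) [Field k] (r : ℕ) :
    _root_.PP16.IsDiffSmooth k (FractionRing (MvPolynomial (Fin r) k)) ∧
      ∃ b : Module.Basis (Fin r) (FractionRing (MvPolynomial (Fin r) k))
          (KaehlerDifferential k (FractionRing (MvPolynomial (Fin r) k))),
        ∀ i, b i = KaehlerDifferential.D k (FractionRing (MvPolynomial (Fin r) k))
          (algebraMap (MvPolynomial (Fin r) k) (FractionRing (MvPolynomial (Fin r) k))
            (MvPolynomial.X i)) := by
  let S := MvPolynomial (Fin r) k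
  let K := FractionRing S
  have : Algebra.FormallyEtale S K := Algebra.FormallyEtale.of_isLocalization (nonZeroDivisors S)
  have : Algebra.FormallySmooth k K := Algebra.FormallySmooth.comp k S K
  refine ⟨isDiffSmooth_of_formallySmooth k K, ?_⟩
  let e := (KaehlerDifferential.isBaseChange_of_formallyEtale k S K).equiv
  let b := (Algebra.TensorProduct.basis K (KaehlerDifferential.mvPolynomialBasis k (Fin r))).map e
  refine ⟨b, fun i => ?_⟩
  rw [Module.Basis.map_apply, Algebra.TensorProduct.basis_apply]
  refine ((KaehlerDifferential.isBaseChange_of_formallyEtale k S K).equiv_tmul 1 _).trans ?_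
  rw [one_smul]
  have h : (KaehlerDifferential.mvPolynomialBasis k (Fin r)) i =
      KaehlerDifferential.D k S (MvPolynomial.X i) := by
    rw [← (KaehlerDifferential.mvPolynomialBasis k (Fin r)).repr.injective.eq_iff,
      Module.Basis.repr_self, KaehlerDifferential.mvPolynomialBasis_repr_D_X]
  rw [h, KaehlerDifferential.map_D]

end Groth.Agent.PP16
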