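import Groth.Agent.PP16.Basic
import Mathlib.LinearAlgebra.SymmetricAlgebra.Basic

set_option autoImplicit false
set_option linter.unusedSectionVars false

open scoped TensorProduct

namespace Groth.Agent.PP16

universe u

theorem exists_algEquiv_sym (n : ℕ) (A : Type u) [CommRing A] (E : Type u) [AddCommGroup E]
    [Module A E] (B : Type u) [CommRing B] [Algebra A B] (ι : E →ₗ[A] B)
    (hsym : IsSymmetricAlgebra ι) (ε : B →ₐ[A] A) (hε : ∀ t, ε (ι t) = 0) :
    ∃ e : _root_.PP16.P n A B ≃ₐ[B] (B ⊗[A] (B ⧸ RingHom.ker ε ^ (n + 1))),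
      ∀ t : E, e (_root_.PP16.dn n A B (ι t)) = ι t ⊗ₜ 1 + 1 ⊗ₜ Ideal.Quotient.mk _ (ι t) := by
  let K : Ideal B := RingHom.ker ε
  have hK : ∀ x, x ∈ K ↔ ε x = 0 := fun x => Iff.rfl
  let Q := B ⧸ K ^ (n + 1)
  let T := B ⊗[A] Q
  let inR : Q →ₐ[A] T := Algebra.TensorProduct.includeRight
  let M : Ideal T := (K.map (Ideal.Quotient.mk (K ^ (n + 1)))).map inR
  have hM : M ^ (n + 1) = ⊥ := by
    simp only [M]
    rw [← Ideal.map_pow inR, ← Ideal.map_pow, Ideal.map_quotient_self, Ideal.map_bot]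
  have hιK : ∀ t, ι t ∈ K := fun t => by rw [hK]; exact hε t
  let φ : B →ₐ[A] T := hsym.lift
    ((Algebra.TensorProduct.includeLeft (R := A) (S := A) (A := B) (B := Q)).toLinearMap ∘ₗ ι +
      inR.toLinearMap ∘ₗ (Ideal.Quotient.mkₐ A _).toLinearMap ∘ₗ ι)
  have hφι : ∀ t, φ (ι t) = ι t ⊗ₜ 1 + 1 ⊗ₜ Ideal.Quotient.mk _ (ι t) := fun t => by
    rw [IsSymmetricAlgebra.lift_eq]
    rfl
  have hφ : ∀ b : B, φ b - b ⊗ₜ 1 ∈ M := by
    have : (Ideal.Quotient.mkₐ A M).comp φ =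
        (Ideal.Quotient.mkₐ A M).comp (Algebra.TensorProduct.includeLeft) :=
      by
        refine IsSymmetricAlgebra.algHom_ext (A' := T ⧸ M) hsym (LinearMap.ext fun t => ?_)
        change Ideal.Quotient.mk M (φ (ι t)) = Ideal.Quotient.mk M (ι t ⊗ₜ 1)
        rw [hφι, Ideal.Quotient.eq, add_sub_cancel_left]
        exact Ideal.mem_map_of_mem _ (Ideal.mem_map_of_mem _ (hιK t))
    intro b
    exact Ideal.Quotient.eq.1 (AlgHom.congr_fun this b)
  let Φ : B ⊗[A] B →ₐ[B] T :=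
    Algebra.TensorProduct.lift (Algebra.ofId B _) φ fun _ _ => Commute.all _ _
  have hI : (KaehlerDifferential.ideal A B).map Φ ≤ M := by
    rw [ideal_eq_span A, Ideal.map_span, Ideal.span_le]
    rintro _ ⟨_, ⟨b, rfl⟩, rfl⟩
    simpa [Φ, delta] using! hφ b
  have hIn : ∀ x ∈ KaehlerDifferential.ideal A B ^ (n + 1), Φ x = 0 := fun x hx => by
    rw [← Ideal.mem_bot, ← hM]
    exact Ideal.pow_right_mono hI _ (by rw [← Ideal.map_pow]; exact Ideal.mem_map_of_mem _ hx)
  let F : _root_.PP16.P n A B →ₐ[B] T := Ideal.Quotient.liftₐ _ Φ hIn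
  have hF : ∀ b : B, F (_root_.PP16.dn n A B b) = φ b := fun b => by
    change Φ ((1 : B) ⊗ₜ[A] b) = _
    simp [Φ]
  let h : B →ₐ[A] _root_.PP16.P n A B := hsym.lift
    ((_root_.PP16.dn n A B).toLinearMap ∘ₗ ι - (IsScalarTower.toAlgHom A B (_root_.PP16.P n A B)).toLinearMap ∘ₗ ι)
  have hhι : ∀ t, h (ι t) = _root_.PP16.dn n A B (ι t) - algebraMap B _ (ι t) := fun t => by
    rw [IsSymmetricAlgebra.lift_eq]
    rfl
  have hhK : K.map h ≤ _root_.PP16.augIdeal n A B := by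
    rw [Ideal.map_le_iff_le_comap]
    intro x hx
    have : (Ideal.Quotient.mkₐ A (_root_.PP16.augIdeal n A B)).comp h =
        (Algebra.ofId A _).comp ε :=
      by
        refine IsSymmetricAlgebra.algHom_ext (A' := _root_.PP16.P n A B ⧸ _root_.PP16.augIdeal n A B) hsym (LinearMap.ext fun t => ?_)
        refine Eq.trans (b := 0) ?_ ?_
        · have : h (ι t) ∈ _root_.PP16.augIdeal n A B := by
            rw [hhι]; exact Ideal.mem_map_of_mem (Ideal.Quotient.mk _) (delta_mem A (ι t : B))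
          exact Ideal.Quotient.eq_zero_iff_mem.2 this
        · exact ((congrArg (Algebra.ofId A (_root_.PP16.P n A B ⧸ _root_.PP16.augIdeal n A B))
            ((hK _).1 (hιK t))).trans (map_zero _)).symm
    have h2 := AlgHom.congr_fun this x
    rw [AlgHom.comp_apply, AlgHom.comp_apply, (hK x).1 hx, map_zero] at h2
    exact (Ideal.Quotient.eq_zero_iff_mem (I := _root_.PP16.augIdeal n A B)).1 h2
  have hhn : ∀ x ∈ K ^ (n + 1), h x = 0 := fun x hx => by
    have := Ideal.pow_right_mono hhK (n + 1) (by rw [← Ideal.map_pow]; exact Ideal.mem_map_of_mem _ hx)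
    rwa [_root_.PP16.augIdeal, ← Ideal.map_pow, Ideal.map_quotient_self, Ideal.mem_bot] at this
  let G : T →ₐ[B] _root_.PP16.P n A B := Algebra.TensorProduct.lift (Algebra.ofId B _)
    (Ideal.Quotient.liftₐ _ h hhn) fun _ _ => Commute.all _ _
  refine ⟨AlgEquiv.ofAlgHom F G ?_ ?_, fun t => (hF _).trans (hφι t)⟩
  · refine Algebra.TensorProduct.ext (Algebra.ext_id _ _ _) ?_
    refine Ideal.Quotient.algHom_ext _ (hsym.algHom_ext (LinearMap.ext fun t => ?_))
    change F (G ((1 : B) ⊗ₜ[A] Ideal.Quotient.mk _ (ι t))) = (1 : B) ⊗ₜ[A] Ideal.Quotient.mk _ (ι t)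
    have hG : G ((1 : B) ⊗ₜ[A] Ideal.Quotient.mk _ (ι t)) = h (ι t) := by
      refine (Algebra.TensorProduct.lift_tmul _ _ _ _ _).trans ?_
      rw [map_one]
      simp <;> rfl
    rw [hG, hhι, map_sub, hF, hφι, AlgHom.commutes]
    exact add_sub_cancel_left _ _
  · refine Ideal.Quotient.algHom_ext _ (Algebra.TensorProduct.ext (Algebra.ext_id _ _ _) ?_)
    refine hsym.algHom_ext (LinearMap.ext fun t => ?_)
    change G (F (_root_.PP16.dn n A B (ι t))) = _root_.PP16.dn n A B (ι t)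
    rw [hF, hφι, map_add]
    have h1 : G (ι t ⊗ₜ[A] (1 : Q)) = algebraMap B _ (ι t) := by
      refine (Algebra.TensorProduct.lift_tmul _ _ _ _ _).trans ?_
      rw [map_one]
      simp <;> rfl
    have h2 : G ((1 : B) ⊗ₜ[A] Ideal.Quotient.mk _ (ι t)) = h (ι t) := by
      refine (Algebra.TensorProduct.lift_tmul _ _ _ _ _).trans ?_
      rw [map_one]
      simp <;> rfl
    rw [h1, h2, hhι]
    exact add_sub_cancel _ _

end Groth.Agent.PP16
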