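import Groth.Prelude.Def_PP16
import Groth.Prelude.Def_DiffOp
import Groth.Agent.Diff16.Basic
import Groth.Agent.PP16.Basic
import Mathlib.RingTheory.Etale.Basic
import Mathlib.RingTheory.Smooth.Basic
import Mathlib.LinearAlgebra.TensorProduct.Tower
import Mathlib.RingTheory.Localization.BaseChange

set_option autoImplicit false
set_option linter.unusedSectionVars false

open scoped TensorProduct BigOperators

namespace Groth.Agent.PP16

open _root_.Diff16 Groth.Agent.Diff16

universe u v

set_option maxHeartbeats 400000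

section universal

variable (n : ℕ) {A B : Type u} [CommRing A] [CommRing B] [Algebra A B]
  {M N : Type u} [AddCommGroup M] [Module A M] [Module B M] [IsScalarTower A B M]
  [AddCommGroup N] [Module A N] [Module B N] [IsScalarTower A B N]

/-- `c ↦ D (c • m)`. -/
noncomputable def atPoint (D : M →ₗ[A] N) (m : M) : B →ₗ[A] N :=
  D ∘ₗ (LinearMap.toSpanSingleton B M m).restrictScalars A

theorem atPoint_apply (D : M →ₗ[A] N) (m : M) (c : B) : atPoint D m c = D (c • m) := rfl

theorem isDiffOpLE_atPoint {D : M →ₗ[A] N} (hD : IsDiffOpLE A B M N n D) (m : M) :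
    IsDiffOpLE A B B N n (atPoint D m) := by
  have h0 : IsDiffOpLE A B B M 0 ((LinearMap.toSpanSingleton B M m).restrictScalars A) :=
    fun b c => by simp [mul_smul]
  exact IsDiffOpLE.comp_le n (zero_add n) h0 hD

theorem isDiffOpLE_of_atPoint {D : M →ₗ[A] N}
    (hD : ∀ m, IsDiffOpLE A B B N n (atPoint D m)) : IsDiffOpLE A B M N n D := by
  rw [isDiffOpLE_iff_altSum]
  intro b t
  have := (isDiffOpLE_iff_altSum n _).1 (hD t) b 1
  rw [← this]
  simp only [altSum, atPoint_apply, smul_eq_mul, mul_one]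

/-- The linearization of `D` on principal parts, at a point. -/
noncomputable def pointMap {D : M →ₗ[A] N} (hD : IsDiffOpLE A B M N n D) (m : M) :
    _root_.PP16.P n A B →+ N :=
  QuotientAddGroup.lift _ (linearize A B B N (atPoint D m)).toAddMonoidHom
    fun x hx => (Groth.Agent.Diff16.isDiffOpLE_iff_linearize n _).1 (isDiffOpLE_atPoint n hD m) x hx

theorem pointMap_mk {D : M →ₗ[A] N} (hD : IsDiffOpLE A B M N n D) (m : M) (x : B ⊗[A] B) :
    pointMap n hD m (Ideal.Quotient.mk _ x) = linearize A B B N (atPoint D m) x := rfl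

/-- The factorisation of a differential operator through `P^n(M)`. -/
noncomputable def factor {D : M →ₗ[A] N} (hD : IsDiffOpLE A B M N n D) :
    _root_.PP16.PM n A B M →+ N :=
  TensorProduct.liftAddHom
    ({ toFun := fun p => AddMonoidHom.mk' (fun m => pointMap n hD m p) fun m m' => by
         obtain ⟨x, rfl⟩ := Ideal.Quotient.mk_surjective (show _root_.PP16.P n A B from p)
         change pointMap n hD (m + m') (Ideal.Quotient.mk _ x) =
           pointMap n hD m (Ideal.Quotient.mk _ x) + pointMap n hD m' (Ideal.Quotient.mk _ x)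
         simp only [pointMap_mk]
         induction x using TensorProduct.induction_on with
         | zero => simp
         | tmul b c => simp [linearize_tmul, atPoint_apply, smul_add]
         | add x y hx hy => rw [map_add, map_add, map_add, hx, hy]; abel
       map_zero' := by ext m; exact map_zero (pointMap n hD m)
       map_add' := fun p q => by ext m; exact map_add (pointMap n hD m) p q } :
      _root_.PP16.Pr n A B →+ M →+ N)
    fun b p m => by
      obtain ⟨x, rfl⟩ := Ideal.Quotient.mk_surjective (show _root_.PP16.P n A B from p)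
      change pointMap n hD m (_root_.PP16.dn n A B b * Ideal.Quotient.mk _ x) =
        pointMap n hD (b • m) (Ideal.Quotient.mk _ x)
      change pointMap n hD m (Ideal.Quotient.mk _ ((1 : B) ⊗ₜ[A] b) * Ideal.Quotient.mk _ x) = _
      rw [← map_mul, pointMap_mk, pointMap_mk]
      induction x using TensorProduct.induction_on with
      | zero => simp
      | tmul c d =>
        simp [linearize_tmul, atPoint_apply, Algebra.TensorProduct.tmul_mul_tmul, ← mul_smul,
          mul_comm b d]
      | add x y hx hy => rw [mul_add, map_add, map_add, hx, hy]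

theorem factor_tmul {D : M →ₗ[A] N} (hD : IsDiffOpLE A B M N n D) (x : B ⊗[A] B) (m : M) :
    factor n hD ((Ideal.Quotient.mk _ x : _root_.PP16.Pr n A B) ⊗ₜ[B] m) =
      linearize A B B N (atPoint D m) x := rfl

theorem factor_smul {D : M →ₗ[A] N} (hD : IsDiffOpLE A B M N n D) (b : B)
    (t : _root_.PP16.PM n A B M) :
    factor n hD (algebraMap B (_root_.PP16.P n A B) b • t) = b • factor n hD t := by
  induction t using TensorProduct.induction_on with
  | zero => simp
  | tmul p m =>
    rw [TensorProduct.smul_tmul']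
    obtain ⟨x, rfl⟩ := Ideal.Quotient.mk_surjective (show _root_.PP16.P n A B from p)
    change factor n hD ((Ideal.Quotient.mk _ (b ⊗ₜ[A] (1 : B)) * Ideal.Quotient.mk _ x :
      _root_.PP16.P n A B) ⊗ₜ[B] m : _root_.PP16.PM n A B M) = _
    rw [← map_mul, factor_tmul, factor_tmul]
    induction x using TensorProduct.induction_on with
    | zero => simp
    | tmul c d => simp [linearize_tmul, Algebra.TensorProduct.tmul_mul_tmul, mul_smul]
    | add x y hx hy => rw [mul_add, map_add, map_add, hx, hy, smul_add]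
  | add x y hx hy => rw [smul_add, map_add, map_add, hx, hy, smul_add]

theorem factor_dM {D : M →ₗ[A] N} (hD : IsDiffOpLE A B M N n D) (m : M) :
    factor n hD (_root_.PP16.dM n A B M m) = D m := by
  change factor n hD ((Ideal.Quotient.mk _ ((1 : B) ⊗ₜ[A] (1 : B)) : _root_.PP16.Pr n A B) ⊗ₜ[B] m) = _
  rw [factor_tmul, linearize_tmul, atPoint_apply, one_smul, one_smul]

theorem isDiffOpLE_iff_factor (D : M →ₗ[A] N) :
    IsDiffOpLE A B M N n D ↔
      ∃! u : _root_.PP16.PM n A B M →+ N,
        (∀ (b : B) (t : _root_.PP16.PM n A B M),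
            u (algebraMap B (_root_.PP16.P n A B) b • t) = b • u t) ∧
          ∀ m : M, u (_root_.PP16.dM n A B M m) = D m := by
  have key : ∀ (u : _root_.PP16.PM n A B M →+ N),
      (∀ (b : B) (t : _root_.PP16.PM n A B M),
          u (algebraMap B (_root_.PP16.P n A B) b • t) = b • u t) →
      (∀ m : M, u (_root_.PP16.dM n A B M m) = D m) → ∀ (m : M) (x : B ⊗[A] B),
        u ((Ideal.Quotient.mk _ x : _root_.PP16.Pr n A B) ⊗ₜ[B] m) =
          linearize A B B N (atPoint D m) x := by
    intro u hu hD m x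
    induction x using TensorProduct.induction_on with
    | zero =>
      rw [map_zero, map_zero]
      exact (congrArg u (TensorProduct.zero_tmul (R := B) (_root_.PP16.Pr n A B) m)).trans
        (map_zero u)
    | tmul c d =>
      rw [linearize_tmul, atPoint_apply, ← hD, ← hu]
      congr 1
      rw [_root_.PP16.dM]
      change _ = algebraMap B (_root_.PP16.P n A B) c • ((1 : _root_.PP16.Pr n A B) ⊗ₜ[B] (d • m))
      rw [← TensorProduct.smul_tmul, TensorProduct.smul_tmul']
      congr 1
      change _ = Ideal.Quotient.mk _ (c ⊗ₜ[A] (1 : B)) *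
        (Ideal.Quotient.mk _ ((1 : B) ⊗ₜ[A] d) * 1)
      rw [mul_one, ← map_mul, Algebra.TensorProduct.tmul_mul_tmul, mul_one, one_mul]
    | add x y hx hy =>
      rw [map_add (linearize A B B N (atPoint D m)), ← hx, ← hy, ← map_add u, map_add]
      exact congrArg u (TensorProduct.add_tmul (R := B) (M := _root_.PP16.Pr n A B) _ _ m)
  constructor
  · intro hD
    refine ⟨factor n hD, ⟨factor_smul n hD, factor_dM n hD⟩, ?_⟩
    rintro u ⟨h1, h2⟩
    refine AddMonoidHom.ext fun t => ?_
    induction t using TensorProduct.induction_on with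
    | zero => simp
    | tmul p m =>
      obtain ⟨x, rfl⟩ := Ideal.Quotient.mk_surjective (show _root_.PP16.P n A B from p)
      exact (key u h1 h2 m x).trans (factor_tmul n hD x m).symm
    | add x y hx hy => rw [map_add, map_add, hx, hy]
  · rintro ⟨u, ⟨h1, h2⟩, -⟩
    refine isDiffOpLE_of_atPoint n fun m => (Groth.Agent.Diff16.isDiffOpLE_iff_linearize n _).2 ?_
    intro x hx
    rw [← key u h1 h2 m x]
    have : (Ideal.Quotient.mk (KaehlerDifferential.ideal A B ^ (n + 1)) x) = 0 :=
      Ideal.Quotient.eq_zero_iff_mem.2 hx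
    rw [this]
    exact (congrArg u (TensorProduct.zero_tmul (R := B) (_root_.PP16.Pr n A B) m)).trans (map_zero u)

end universal

section representing

variable (k : ℕ) (R S : Type u) [CommRing R] [CommRing S] [Algebra R S]
  (M : Type u) [AddCommGroup M] [Module S M] [Module R M] [IsScalarTower R S M]

theorem exists_universal :
    ∃ (P : Type u) (_ : AddCommGroup P) (_ : Module S P) (_ : Module R P) (_ : IsScalarTower R S P)
      (D : M →ₗ[R] P), IsDiffOpLE R S M P k D ∧
        ∀ (N : Type u) [AddCommGroup N] [Module S N] [Module R N] [IsScalarTower R S N]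
          (D' : M →ₗ[R] N), IsDiffOpLE R S M N k D' →
            ∃! α : P →ₗ[S] N, α.restrictScalars R ∘ₗ D = D' := by
  let j : M →ₗ[R] S ⊗[R] M := TensorProduct.mk R S M 1
  let rel : Submodule S (S ⊗[R] M) := Submodule.span S
    (Set.range fun p : (Fin (k + 1) → S) × M => altSum j Finset.univ p.1 p.2)
  refine ⟨(S ⊗[R] M) ⧸ rel, inferInstance, inferInstance, inferInstance, inferInstance,
    (rel.mkQ.restrictScalars R) ∘ₗ j, ?_, ?_⟩
  · rw [isDiffOpLE_iff_altSum]
    intro b t
    have h : rel.mkQ (altSum j Finset.univ b t) = 0 :=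
      (Submodule.Quotient.mk_eq_zero rel).2 (Submodule.subset_span ⟨(b, t), rfl⟩)
    rw [← h]
    simp only [altSum, map_sum, map_zsmul, map_smul]
    rfl
  · intro N _ _ _ _ D' hD'
    have hj : ∀ m, LinearMap.liftBaseChange S D' (j m) = D' m := fun m => by
      simp [j]
    have hker : rel ≤ LinearMap.ker (LinearMap.liftBaseChange S D') := by
      rw [Submodule.span_le]
      rintro _ ⟨⟨b, t⟩, rfl⟩
      rw [SetLike.mem_coe, LinearMap.mem_ker]
      simp only [altSum, map_sum, map_zsmul, map_smul, hj]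
      exact (isDiffOpLE_iff_altSum k D').1 hD' b t
    refine ⟨Submodule.liftQ rel _ hker, LinearMap.ext hj, fun α hα => ?_⟩
    apply Submodule.linearMap_qext
    refine LinearMap.ext fun x => ?_
    induction x using TensorProduct.induction_on with
    | zero => simp
    | tmul s m =>
      have e : s ⊗ₜ[R] m = s • j m := by simp [j, TensorProduct.smul_tmul']
      rw [e, map_smul, map_smul]
      congr 1
      exact (LinearMap.congr_fun hα m).trans (hj m).symm
    | add x y hx hy => rw [map_add, map_add, hx, hy]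

end representing

section etale

variable {R S S' : Type u} [CommRing R] [CommRing S] [CommRing S'] [Algebra R S] [Algebra R S']
  [Algebra S S'] [IsScalarTower R S S']
  {M N : Type u} [AddCommGroup M] [Module S M] [Module R M] [IsScalarTower R S M]
  [AddCommGroup N] [Module S' N] [Module R N] [IsScalarTower R S' N]

theorem unramified_linear [Algebra.FormallyUnramified S S'] :
    ∀ (m : ℕ) (D : S' ⊗[S] M →ₗ[R] N), IsDiffOpLE R S' (S' ⊗[S] M) N m D →
      (∀ s : S, commutator R S' (S' ⊗[S] M) N D (algebraMap S S' s) = 0) →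
      IsDiffOpLE R S' (S' ⊗[S] M) N 0 D := by
  intro m
  induction m with
  | zero => intro D h _; exact h
  | succ m ih =>
    intro D h hc
    have h1 : ∀ b, IsDiffOpLE R S' (S' ⊗[S] M) N 0 (commutator R S' (S' ⊗[S] M) N D b) := fun b =>
      ih _ (h b) fun s => by rw [comm_comm, hc s, comm_zero]
    letI : Module S N := Module.compHom N (algebraMap S S')
    haveI : IsScalarTower S S' N :=
      ⟨fun s b x => by
        change (s • b) • x = algebraMap S S' s • (b • x)
        rw [Algebra.smul_def, mul_smul]⟩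
    rw [isDiffOpLE_zero_iff_comm]
    intro b
    refine LinearMap.ext fun x => ?_
    let δ : Derivation S S' N := Derivation.mk'
      { toFun := fun c => commutator R S' (S' ⊗[S] M) N D c x
        map_add' := fun c d => by rw [comm_add_right]; rfl
        map_smul' := fun s c => by
          rw [Algebra.smul_def, comm_mul, hc s, LinearMap.zero_comp, zero_add, RingHom.id_apply]
          rfl }
      fun c d => by
        change commutator R S' (S' ⊗[S] M) N D (c * d) x =
          c • commutator R S' (S' ⊗[S] M) N D d x + d • commutator R S' (S' ⊗[S] M) N D c x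
        rw [comm_mul, add_comm]
        change _ + commutator R S' (S' ⊗[S] M) N D c (d • x) = _
        rw [h1 c d x]; rfl
    have : δ.liftKaehlerDifferential = 0 := LinearMap.ext fun w => by
      rw [Subsingleton.elim w 0, map_zero, map_zero]
    change δ b = 0
    rw [← δ.liftKaehlerDifferential_comp_D b, this, LinearMap.zero_apply]

theorem unique_extension [Algebra.FormallyUnramified S S'] :
    ∀ (k : ℕ) (D : S' ⊗[S] M →ₗ[R] N), IsDiffOpLE R S' (S' ⊗[S] M) N k D →
      (∀ m, D ((1 : S') ⊗ₜ[S] m) = 0) → D = 0 := by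
  intro k
  induction k with
  | zero =>
    intro D h h0
    refine LinearMap.ext fun x => ?_
    induction x using TensorProduct.induction_on with
    | zero => simp
    | tmul s m =>
      have e : s ⊗ₜ[S] m = s • ((1 : S') ⊗ₜ[S] m) := by simp [TensorProduct.smul_tmul']
      rw [e, h, h0, smul_zero]; rfl
    | add x y hx hy => rw [map_add, hx, hy]; simp
  | succ k ih =>
    intro D h h0
    have hc : ∀ s : S, commutator R S' (S' ⊗[S] M) N D (algebraMap S S' s) = 0 := fun s =>
      ih _ (h _) fun m => by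
        rw [comm_apply, h0, smul_zero, sub_zero, algebraMap_smul, ← TensorProduct.tmul_smul, h0]
    have h1 := unramified_linear _ D h hc
    refine LinearMap.ext fun x => ?_
    induction x using TensorProduct.induction_on with
    | zero => simp
    | tmul s m =>
      have e : s ⊗ₜ[S] m = s • ((1 : S') ⊗ₜ[S] m) := by simp [TensorProduct.smul_tmul']
      rw [e, h1, h0, smul_zero]; rfl
    | add x y hx hy => rw [map_add, hx, hy]; simp

theorem eq_of_extension [Algebra.FormallyUnramified S S'] (k : ℕ) (D E : S' ⊗[S] M →ₗ[R] N)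
    (hD : IsDiffOpLE R S' (S' ⊗[S] M) N k D) (hE : IsDiffOpLE R S' (S' ⊗[S] M) N k E)
    (h : ∀ m, D ((1 : S') ⊗ₜ[S] m) = E ((1 : S') ⊗ₜ[S] m)) : D = E :=
  sub_eq_zero.1 <| unique_extension k (D - E) (IsDiffOpLE.sub hD hE) fun m => by simp [h m]

/-- Ring-hom form of lifting along a nilpotent ideal for formally smooth algebras. -/
theorem exists_ringHom_lift [Algebra.FormallySmooth S S'] {U : Type u} [CommRing U] (f : S →+* U)
    (L : Ideal U) (hL : IsNilpotent L) (g : S' →+* U ⧸ L)
    (h : ∀ s, g (algebraMap S S' s) = Ideal.Quotient.mk L (f s)) :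
    ∃ ψ : S' →+* U, (∀ s, ψ (algebraMap S S' s) = f s) ∧ ∀ c, Ideal.Quotient.mk L (ψ c) = g c := by
  let _ := f.toAlgebra
  let g' : S' →ₐ[S] U ⧸ L := { toRingHom := g, commutes' := h }
  exact ⟨(Algebra.FormallySmooth.lift L hL g').toRingHom,
    (Algebra.FormallySmooth.lift L hL g').commutes, Algebra.FormallySmooth.mk_lift L hL g'⟩

/-- Lift of the identity of `S'` to `S' ⊗[S] P`. -/
theorem exists_lift_parts [Algebra.FormallySmooth S S'] {P : Type u} [CommRing P] [Algebra S P]
    (J : Ideal P) (k : ℕ) (hJ : J ^ (k + 1) = ⊥) (d : S →+* P)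
    (hd : ∀ s, d s - algebraMap S P s ∈ J) :
    ∃ ψ : S' →+* S' ⊗[S] P, (∀ s, ψ (algebraMap S S' s) = (1 : S') ⊗ₜ[S] d s) ∧
      ∀ c : Fin (k + 1) → S', ∏ i, (c i ⊗ₜ[S] (1 : P) - ψ (c i)) = 0 := by
  let L : Ideal (S' ⊗[S] P) :=
    J.map (Algebra.TensorProduct.includeRight : P →ₐ[S] S' ⊗[S] P)
  have hL : L ^ (k + 1) = ⊥ := by rw [← Ideal.map_pow, hJ, Ideal.map_bot]
  obtain ⟨ψ, hψ, hψg⟩ := exists_ringHom_lift (S := S) (S' := S')
    ((Algebra.TensorProduct.includeRight : P →ₐ[S] S' ⊗[S] P).toRingHom.comp d) L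
    ⟨k + 1, by rw [hL]; rfl⟩
    ((Ideal.Quotient.mk L).comp Algebra.TensorProduct.includeLeftRingHom) (fun s => by
      change Ideal.Quotient.mk L (algebraMap S S' s ⊗ₜ[S] (1 : P)) =
        Ideal.Quotient.mk L ((1 : S') ⊗ₜ[S] d s)
      rw [Algebra.algebraMap_eq_smul_one, TensorProduct.smul_tmul,
        ← Algebra.algebraMap_eq_smul_one, Ideal.Quotient.eq, ← TensorProduct.tmul_sub]
      refine Ideal.mem_map_of_mem (Algebra.TensorProduct.includeRight : P →ₐ[S] S' ⊗[S] P) ?_
      rw [← neg_sub]; exact neg_mem (hd s))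
  refine ⟨ψ, hψ, fun c => ?_⟩
  have : ∏ i, (c i ⊗ₜ[S] (1 : P) - ψ (c i)) ∈ L ^ (k + 1) := by
    have h := Ideal.prod_mem_prod (s := Finset.univ) (I := fun _ : Fin (k + 1) => L)
      (x := fun i => c i ⊗ₜ[S] (1 : P) - ψ (c i)) fun i _ => by
        rw [← Ideal.Quotient.eq]
        exact (hψg (c i)).symm
    rwa [Finset.prod_const, Finset.card_univ, Fintype.card_fin] at h
  rwa [hL, Ideal.mem_bot] at this

theorem exists_extension_aux {N₀ : Type u} [AddCommGroup N₀] [Module S N₀]
    [Module R N₀] [IsScalarTower R S N₀] {P : Type u} [CommRing P] [Algebra S P] (k : ℕ)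
    (ψ : S' →+* S' ⊗[S] P) (d : S →+* P)
    (hψS : ∀ s, ψ (algebraMap S S' s) = (1 : S') ⊗ₜ[S] d s)
    (hψ : ∀ c : Fin (k + 1) → S', ∏ i, (c i ⊗ₜ[S] (1 : P) - ψ (c i)) = 0)
    (hdR : ∀ r : R, d (algebraMap R S r) = algebraMap S P (algebraMap R S r))
    (um : M → (P →ₗ[S] N₀)) (hadd : ∀ m m', um (m + m') = um m + um m')
    (hum : ∀ s m p, um m (d s * p) = um (s • m) p) :
    ∃ D' : S' ⊗[S] M →ₗ[R] S' ⊗[S] N₀,
      IsDiffOpLE R S' (S' ⊗[S] M) (S' ⊗[S] N₀) k D' ∧
        ∀ m, D' ((1 : S') ⊗ₜ[S] m) = (1 : S') ⊗ₜ[S] um m 1 := by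
  classical
  let Φ : M → (S' ⊗[S] P →ₗ[S'] S' ⊗[S] N₀) := fun m => (um m).baseChange S'
  have hΦadd : ∀ m m' q, Φ (m + m') q = Φ m q + Φ m' q := by
    intro m m' q
    simp only [Φ, hadd, LinearMap.baseChange_add, LinearMap.add_apply]
  have hΦs : ∀ s m (q : S' ⊗[S] P), Φ m (((1 : S') ⊗ₜ[S] d s) * q) = Φ (s • m) q := by
    intro s m q
    induction q using TensorProduct.induction_on with
    | zero => simp
    | tmul a p =>
      rw [Algebra.TensorProduct.tmul_mul_tmul, one_mul]
      simp only [Φ, LinearMap.baseChange_tmul, hum]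
    | add x y hx hy => rw [mul_add, map_add, map_add, hx, hy]
  let D₀ : S' ⊗[S] M →+ S' ⊗[S] N₀ := TensorProduct.liftAddHom
    ({ toFun := fun b => AddMonoidHom.mk' (fun m => Φ m (ψ b)) fun m m' => hΦadd m m' _
       map_zero' := by ext m; simp
       map_add' := fun b c => by ext m; simp } : S' →+ M →+ S' ⊗[S] N₀)
    fun s b m => by
      change Φ m (ψ (s • b)) = Φ (s • m) (ψ b)
      rw [Algebra.smul_def, map_mul, hψS]
      exact hΦs s m (ψ b)
  have hD₀ : ∀ b m, D₀ (b ⊗ₜ[S] m) = Φ m (ψ b) := fun b m => rfl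
  have hψR : ∀ r : R, ψ (algebraMap R S' r) = algebraMap R S' r ⊗ₜ[S] (1 : P) := fun r => by
    rw [IsScalarTower.algebraMap_apply R S S', hψS, hdR, Algebra.algebraMap_eq_smul_one,
      Algebra.algebraMap_eq_smul_one (R := S) (A := S'), TensorProduct.smul_tmul]
  have hleft : ∀ (a : S') (m : M) (q : S' ⊗[S] P),
      Φ m ((a ⊗ₜ[S] (1 : P)) * q) = a • Φ m q := fun a m q => by
    rw [← map_smul]
    congr 1
    induction q using TensorProduct.induction_on with
    | zero => simp
    | tmul c p =>
      rw [Algebra.TensorProduct.tmul_mul_tmul, one_mul, TensorProduct.smul_tmul', smul_eq_mul]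
    | add x y hx hy => rw [mul_add, smul_add, hx, hy]
  let D' : S' ⊗[S] M →ₗ[R] S' ⊗[S] N₀ :=
    { toFun := D₀
      map_add' := D₀.map_add
      map_smul' := fun r x => by
        rw [RingHom.id_apply]
        induction x using TensorProduct.induction_on with
        | zero => simp
        | tmul b m =>
          rw [TensorProduct.smul_tmul', hD₀, hD₀, Algebra.smul_def, map_mul, hψR, hleft,
            algebraMap_smul]
        | add x y hx hy => rw [smul_add, map_add, map_add, hx, hy, smul_add] }
  have hD' : ∀ x, D' x = D₀ x := fun x => rfl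
  refine ⟨D', ?_, fun m => ?_⟩
  · rw [isDiffOpLE_iff_altSum]
    intro b t
    induction t using TensorProduct.induction_on with
    | zero => simp [altSum]
    | tmul c m =>
      rw [altSum_univ_eq]
      have ep : ∀ H : Finset (Fin (k + 1)),
          (∏ i ∈ H, b i ⊗ₜ[S] (1 : P)) = (∏ i ∈ H, b i) ⊗ₜ[S] (1 : P) := fun H =>
        (map_prod (Algebra.TensorProduct.includeLeftRingHom : S' →+* S' ⊗[S] P) b H).symm
      have e : ∀ H : Finset (Fin (k + 1)),
          (∏ i ∈ H, b i) • D' ((∏ i ∈ Hᶜ, b i) • (c ⊗ₜ[S] m)) =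
            Φ m (((∏ i ∈ H, b i ⊗ₜ[S] (1 : P)) * ∏ i ∈ Hᶜ, ψ (b i)) * ψ c) := by
        intro H
        rw [TensorProduct.smul_tmul', smul_eq_mul]
        rw [hD', hD₀, map_mul, map_prod, ep, mul_assoc, hleft]
      simp only [e, ← map_zsmul, ← map_sum]
      have hsum : ∑ H : Finset (Fin (k + 1)), ((-1 : ℤ) ^ H.card) •
          (((∏ i ∈ H, b i ⊗ₜ[S] (1 : P)) * ∏ i ∈ Hᶜ, ψ (b i)) * ψ c) =
          (∏ a, (-(b a ⊗ₜ[S] (1 : P)) + ψ (b a))) * ψ c := by
        rw [Fintype.prod_add, Finset.sum_mul]
        refine Finset.sum_congr rfl fun H _ => ?_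
        rw [Finset.prod_neg, zsmul_eq_mul]
        push_cast; ring
      have h0 : (∏ a, (-(b a ⊗ₜ[S] (1 : P)) + ψ (b a))) = 0 := by
        rw [show (fun a => -(b a ⊗ₜ[S] (1 : P)) + ψ (b a)) =
          fun a => -1 * (b a ⊗ₜ[S] (1 : P) - ψ (b a)) from funext fun a => by ring,
          Finset.prod_mul_distrib, hψ b, mul_zero]
      rw [hsum, h0, zero_mul, map_zero]
    | add x y hx hy =>
      simp only [altSum, smul_add, map_add, Finset.sum_add_distrib] at hx hy ⊢
      rw [hx, hy, add_zero]
  · rw [hD', hD₀, map_one, Algebra.TensorProduct.one_def]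
    exact LinearMap.baseChange_tmul _ _ _

theorem exists_extension [Algebra.FormallySmooth S S'] {N₀ : Type u} [AddCommGroup N₀] [Module S N₀]
    [Module R N₀] [IsScalarTower R S N₀] (k : ℕ) (D : M →ₗ[R] N₀)
    (hD : IsDiffOpLE R S M N₀ k D) :
    ∃ D' : S' ⊗[S] M →ₗ[R] S' ⊗[S] N₀,
      IsDiffOpLE R S' (S' ⊗[S] M) (S' ⊗[S] N₀) k D' ∧
        ∀ m, D' ((1 : S') ⊗ₜ[S] m) = (1 : S') ⊗ₜ[S] D m := by
  obtain ⟨ψ, hψS, hψ⟩ := exists_lift_parts (S := S) (S' := S') (_root_.PP16.augIdeal k R S) k
    (by rw [_root_.PP16.augIdeal, ← Ideal.map_pow, Ideal.map_quotient_self])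
    (_root_.PP16.dn k R S).toRingHom (fun s => by
      change Ideal.Quotient.mk _ ((1 : S) ⊗ₜ[R] s) - Ideal.Quotient.mk _ (s ⊗ₜ[R] (1 : S)) ∈ _
      rw [← map_sub]; exact Ideal.mem_map_of_mem _ (delta_mem R s))
  let ι : M → _root_.PP16.P k R S → _root_.PP16.PM k R S M := fun m p =>
    TensorProduct.mk S (_root_.PP16.Pr k R S) M p m
  have hι : ∀ (m : M) (p q : _root_.PP16.P k R S), ι m (p + q) = ι m p + ι m q := fun m p q =>
    LinearMap.map_add₂ (TensorProduct.mk S (_root_.PP16.Pr k R S) M) p q m
  let um : M → (_root_.PP16.P k R S →ₗ[S] N₀) := fun m =>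
    { toFun := fun p => factor k hD (ι m p)
      map_add' := fun p q => by rw [hι, map_add]
      map_smul' := fun s p => by
        rw [RingHom.id_apply, ← factor_smul]
        congr 1
        change ι m (s • p) = _
        rw [Algebra.smul_def]
        rfl }
  obtain ⟨D', h1, h2⟩ := exists_extension_aux (M := M) k ψ (_root_.PP16.dn k R S).toRingHom hψS hψ
    (fun r => by
      change _root_.PP16.dn k R S (algebraMap R S r) = _
      rw [AlgHom.commutes, IsScalarTower.algebraMap_apply R S (_root_.PP16.P k R S)])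
    um
    (fun m m' => LinearMap.ext fun p => by
      change factor k hD (ι (m + m') p) = factor k hD (ι m p) + factor k hD (ι m' p)
      rw [← map_add]
      exact congrArg _ ((TensorProduct.mk S (_root_.PP16.Pr k R S) M p).map_add m m'))
    (fun s m p => by
      change factor k hD (ι m (_root_.PP16.dn k R S s * p)) = factor k hD (ι (s • m) p)
      congr 1
      have h := TensorProduct.smul_tmul (R := S) (R' := S) (M := _root_.PP16.Pr k R S) (N := M) s p m
      exact h)
  exact ⟨D', h1, fun m => (h2 m).trans (congrArg _ (factor_dM k hD m))⟩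

end etale

end Groth.Agent.PP16
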